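import Cfsg.Agent.OddHalf.NI3.Ex4.OEight.CFourWord
import Cfsg.Agent.StdO8.Frame

/-!
# (EX4), the row `Ω₈⁺(2)`: the involution `w₀` of type `c₄` is dead (helper831)

The 3-part of the centralizer of `w₀` in `Aut Ω₈⁺(2)` is 9: a 3-subgroup of `C_{O₈}(w₀)` acts faithfully on the flag
`⟨e₂⟩ < ⟨e₀, f₁, e₂⟩ < C_V(w₀) < V`, so it has order at most 3. Hence every `β` of order 3 fixing `w₀` is conjugate in
`C_{Aut}(w₀)` to an element of `⟨tri, conj c₀⟩`.
-/

set_option autoImplicit false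
set_option linter.style.haveILetI false

namespace Cfsg.Agent.OddHalf.NI3.Ex4.O8.CFour

open Subgroup Cfsg Cfsg.Agent.OddHalf.NI3.ExTri Cfsg.Agent.OddHalf.NI3.Ex4
open Cfsg.Agent.StdO8.Model (V q B O8 Om O8_q O8_B)
open Cfsg.Agent.StdO8.D4Root (E roots Φ)
open Cfsg.Agent.StdO8.Tri (tri)
open Cfsg.Agent.StdO8.Aut (cj cj_coe index_range)
open Cfsg.Agent.StdO8.Code

/-! ### The flag -/

/-- codes of `U₃ = ⟨e₀, f₁, e₂⟩` -/
def U3 : List ℕ := [0, 1, 32, 33, 4, 5, 36, 37]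

/-- codes of `U₄ = C_V(w₀) = ⟨e₀, f₁, e₂, e₃ + f₃⟩` -/
def U4 : List ℕ := U3 ++ U3.map (· ^^^ 136)

theorem ok_W : (W.map cd).all ok = true := by decide +kernel

theorem w0_dec (v : ℕ) : ((w0 : Om) : V ≃ₗ[ZMod 2] V) (dec v) = dec (ev (W.map cd) v) := by
  rw [w0_eq]
  exact word_dec ok_W v

theorem lt_ev : ∀ n : Fin 256, ev (W.map cd) n.1 < 256 := by decide +kernel

theorem fix_iff : ∀ n : Fin 256, ev (W.map cd) n.1 = n.1 ↔ n.1 ∈ U4 := by decide +kernel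

theorem q_U4 : ∀ n ∈ U4, qn n = false ↔ n ∈ U3 := by decide +kernel

theorem perp_U4 : ∀ n : Fin 256, (∀ m ∈ U4, Bn n.1 m = false) → n.1 ∈ U4 := by decide +kernel

theorem form_W : ∀ n : Fin 256, Bn n.1 (ev (W.map cd) n.1) = Bn n.1 4 := by decide +kernel

theorem lt_U4 : ∀ n ∈ U4, n < 256 := by decide +kernel

/-- membership of a vector in a list of codes -/
def In (v : V) (L : List ℕ) : Prop := ∃ n ∈ L, v = dec n

theorem fix_iff' (v : V) : ((w0 : Om) : V ≃ₗ[ZMod 2] V) v = v ↔ In v U4 := by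
  obtain ⟨n, hn, rfl⟩ := dec_surj v
  rw [w0_dec]
  constructor
  · intro h
    have h1 := dec_inj (lt_ev ⟨n, hn⟩) hn h
    exact ⟨n, (fix_iff ⟨n, hn⟩).1 h1, rfl⟩
  · rintro ⟨m, hm, h⟩
    have h1 := dec_inj hn (lt_U4 m hm) h
    subst h1
    rw [(fix_iff ⟨n, hn⟩).2 hm]

theorem in_U3_iff (v : V) : In v U3 ↔ In v U4 ∧ q v = 0 := by
  constructor
  · rintro ⟨n, hn, rfl⟩
    have h1 : n ∈ U4 := List.mem_append_left _ hn
    refine ⟨⟨n, h1, rfl⟩, ?_⟩
    rw [q_dec, (q_U4 n h1).2 hn]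
    rfl
  · rintro ⟨⟨n, hn, rfl⟩, h⟩
    rw [q_dec] at h
    exact ⟨n, (q_U4 n hn).1 (cc_eq_zero h), rfl⟩

theorem perp_U4' (v : V) (h : ∀ u, In u U4 → B v u = 0) : In v U4 := by
  obtain ⟨n, hn, rfl⟩ := dec_surj v
  refine ⟨n, perp_U4 ⟨n, hn⟩ fun m hm => ?_, rfl⟩
  have h1 := h (dec m) ⟨m, hm, rfl⟩
  rw [B_dec] at h1
  exact cc_eq_zero h1

theorem form_W' (v : V) : B v (((w0 : Om) : V ≃ₗ[ZMod 2] V) v) = B v (dec 4) := by
  obtain ⟨n, hn, rfl⟩ := dec_surj v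
  rw [w0_dec, B_dec, B_dec, form_W ⟨n, hn⟩]

/-! ### Elements of odd order of `C_{O₈}(w₀)` -/

theorem iter_add {M : V ≃ₗ[ZMod 2] V} {v x : V} (hv : M v = v + x) (hx : M x = x) (n : ℕ) :
    (M ^ n) v = v + n • x := by
  induction n with
  | zero => rw [pow_zero, zero_smul, add_zero]; rfl
  | succ n ih =>
    rw [pow_succ']
    show M ((M ^ n) v) = _
    rw [ih, map_add, map_nsmul, hx, hv, succ_nsmul]
    abel

theorem two_nsmul_V (x : V) : 2 • x = 0 := by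
  rw [two_nsmul]; exact Cfsg.Agent.StdO8.Model.add_self x

/-- an element of odd order with `[v, M] ≤ C(M)` centralizes `v` -/
theorem odd_fix {M : V ≃ₗ[ZMod 2] V} {n : ℕ} (hn : Odd n) (hM : M ^ n = 1) {v x : V} (hv : M v = v + x)
    (hx : M x = x) : M v = v := by
  have h1 := iter_add hv hx n
  rw [hM] at h1
  have h2 : n • x = 0 := by
    have h3 : v = v + n • x := h1
    exact (left_eq_add.1 h3)
  obtain ⟨k, rfl⟩ := hn
  rw [add_smul, one_smul, mul_comm, mul_smul, two_nsmul_V, smul_zero, zero_add] at h2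
  rw [hv, h2, add_zero]

theorem eq_of_In_singleton {v : V} {a : ℕ} (h : In v [a]) : v = dec a := by
  obtain ⟨n, hn, rfl⟩ := h
  rw [List.mem_singleton.1 hn]

/-- **an element of odd order of `C_{O₈}(w₀)` which fixes `e₀` modulo `e₂` is 1** -/
theorem eq_one {M : V ≃ₗ[ZMod 2] V} (hO : M ∈ O8) (hw : M * (w0 : Om) = (w0 : Om) * M) {n : ℕ} (hn : Odd n)
    (hM : M ^ n = 1) (h1 : M (dec 1) = dec 1 ∨ M (dec 1) = dec 1 + dec 4) : M = 1 := by
  have hw' : ∀ v, ((w0 : Om) : V ≃ₗ[ZMod 2] V) (M v) = M (((w0 : Om) : V ≃ₗ[ZMod 2] V) v) := fun v =>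
    (DFunLike.congr_fun hw v).symm
  have hU4 : ∀ v, In v U4 → In (M v) U4 := by
    intro v hv
    rw [← fix_iff'] at hv ⊢
    rw [hw', hv]
  have hU3 : ∀ v, In v U3 → In (M v) U3 := by
    intro v hv
    rw [in_U3_iff] at hv ⊢
    exact ⟨hU4 v hv.1, by rw [O8_q hO, hv.2]⟩
  -- `e₂` is fixed
  have h4 : M (dec 4) = dec 4 := by
    apply Cfsg.Agent.StdO8.Model.eq_of_B
    intro v
    obtain ⟨u, rfl⟩ := M.surjective v
    rw [O8_B hO, Cfsg.Agent.StdO8.Model.B_comm (dec 4) (M u), ← form_W', hw', O8_B hO, form_W',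
      Cfsg.Agent.StdO8.Model.B_comm]
  -- `e₀` is fixed
  have h1' : M (dec 1) = dec 1 := by
    rcases h1 with h | h
    · exact h
    · exact odd_fix hn hM h h4
  -- `f₁` is fixed
  have h32 : M (dec 32) = dec 32 := by
    obtain ⟨a, ha, e⟩ := hU3 (dec 32) ⟨32, by decide, rfl⟩
    have hd : ∀ a ∈ U3, (a = 0 ∨ a = 1 ∨ a = 4 ∨ a = 5) ∨ ∃ x ∈ [0, 1, 4, 5], a = 32 ^^^ x := by
      decide
    have h5 : M (dec 5) = dec 5 := by
      rw [show (5 : ℕ) = 1 ^^^ 4 from rfl, dec_xor, map_add, h1', h4]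
    have hfix : ∀ x : ℕ, (x = 0 ∨ x = 1 ∨ x = 4 ∨ x = 5) → M (dec x) = dec x := by
      rintro x (rfl | rfl | rfl | rfl)
      · rw [dec_zero, map_zero]
      · exact h1'
      · exact h4
      · exact h5
    rcases hd a ha with h | ⟨x, hx, h⟩
    · exfalso
      have h6 := hfix a h
      have h7 : dec 32 = dec a := M.injective (by rw [h6, e])
      have h8 : a < 256 := by rcases h with rfl | rfl | rfl | rfl <;> norm_num
      have h9 := dec_inj (by norm_num) h8 h7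
      rcases h with rfl | rfl | rfl | rfl <;> omega
    · refine odd_fix hn hM (x := dec x) ?_ (hfix x (by simpa using hx))
      rw [e, h, dec_xor]
  -- `U₃` is fixed
  have hU3' : ∀ a ∈ U3, M (dec a) = dec a := by
    have hd : ∀ a ∈ U3, ∃ x y z : Bool, a = (if x then 1 else 0) ^^^ (if y then 32 else 0) ^^^ (if z then 4 else 0) := by
      decide
    intro a ha
    obtain ⟨x, y, z, rfl⟩ := hd a ha
    rw [dec_xor, dec_xor, dec_ite, dec_ite, dec_ite, map_add, map_add, map_smul, map_smul, map_smul, h1', h32, h4]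
  -- `U₄` is fixed
  have h136 : M (dec 136) = dec 136 := by
    obtain ⟨a, ha, e⟩ := hU4 (dec 136) ⟨136, by decide, rfl⟩
    have hd : ∀ a ∈ U4, a ∈ U3 ∨ ∃ x ∈ U3, a = 136 ^^^ x := by decide
    rcases hd a ha with h | ⟨x, hx, h⟩
    · exfalso
      have h6 := hU3' a h
      have h7 : dec 136 = dec a := M.injective (by rw [h6, e])
      have h8 : a < 256 := lt_U4 a ha
      have h9 := dec_inj (by norm_num) h8 h7
      subst h9
      revert h
      decide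
    · refine odd_fix hn hM (x := dec x) ?_ (hU3' x hx)
      rw [e, h, dec_xor]
  have hU4' : ∀ u, In u U4 → M u = u := by
    rintro _ ⟨a, ha, rfl⟩
    have hd : ∀ a ∈ U4, a ∈ U3 ∨ ∃ x ∈ U3, a = 136 ^^^ x := by decide
    rcases hd a ha with h | ⟨x, hx, h⟩
    · exact hU3' a h
    · rw [h, dec_xor, map_add, h136, hU3' x hx]
  -- `V` is fixed
  apply LinearEquiv.ext
  intro v
  have h5 : In (M v + v) U4 := by
    apply perp_U4'
    intro u hu
    rw [Cfsg.Agent.StdO8.Model.B_add_left]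
    have h6 := O8_B hO v u
    rw [hU4' u hu] at h6
    rw [h6]
    exact CharTwo.add_self_eq_zero _
  have h6 : M v = v + (M v + v) := by
    rw [add_comm (M v) v, ← add_assoc, Cfsg.Agent.StdO8.Model.add_self, zero_add]
  exact odd_fix hn hM h6 (hU4' _ h5)

/-- the vectors `e₀, f₁, e₀ + f₁` -/
noncomputable def three : Finset V := {dec 1, dec 32, dec 33}

/-- **a 3-subgroup of `C_{O₈}(w₀)` has order at most 3** -/
theorem card_le_three (P : Subgroup O8) (hP : IsPGroup 3 P)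
    (hw : ∀ M ∈ P, (M : V ≃ₗ[ZMod 2] V) * (w0 : Om) = (w0 : Om) * M) : Nat.card P ≤ 3 := by
  classical
  -- the value at `e₀`
  have hval : ∀ M : P, ∃ v ∈ three, ((M : O8) : V ≃ₗ[ZMod 2] V) (dec 1) = v ∨
      ((M : O8) : V ≃ₗ[ZMod 2] V) (dec 1) = v + dec 4 := by
    intro M
    have hM := (M : O8).2
    have hw' : ∀ v, ((w0 : Om) : V ≃ₗ[ZMod 2] V) (((M : O8) : V ≃ₗ[ZMod 2] V) v) =
        ((M : O8) : V ≃ₗ[ZMod 2] V) (((w0 : Om) : V ≃ₗ[ZMod 2] V) v) := fun v =>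
      (DFunLike.congr_fun (hw M M.2) v).symm
    have h3 : In (((M : O8) : V ≃ₗ[ZMod 2] V) (dec 1)) U3 := by
      have h1 : In (dec 1) U3 := ⟨1, by decide, rfl⟩
      rw [in_U3_iff] at h1 ⊢
      rw [← fix_iff'] at h1 ⊢
      exact ⟨by rw [hw', h1.1], by rw [O8_q hM, h1.2]⟩
    obtain ⟨a, ha, e⟩ := h3
    have h4 : ((M : O8) : V ≃ₗ[ZMod 2] V) (dec 4) = dec 4 := by
      apply Cfsg.Agent.StdO8.Model.eq_of_B
      intro v
      obtain ⟨u, rfl⟩ := ((M : O8) : V ≃ₗ[ZMod 2] V).surjective v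
      rw [O8_B hM, Cfsg.Agent.StdO8.Model.B_comm (dec 4) (((M : O8) : V ≃ₗ[ZMod 2] V) u), ← form_W', hw', O8_B hM,
        form_W', Cfsg.Agent.StdO8.Model.B_comm]
    have hd : ∀ a ∈ U3, a = 0 ∨ a = 4 ∨ ∃ b ∈ [1, 32, 33], a = b ∨ a = b ^^^ 4 := by decide
    rcases hd a ha with h | h | ⟨b, hb, h⟩
    · exfalso
      have h5 : dec 1 = dec 0 := ((M : O8) : V ≃ₗ[ZMod 2] V).injective (by rw [e, h, dec_zero, map_zero])
      exact absurd (dec_inj (by norm_num) (by norm_num) h5) (by norm_num)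
    · exfalso
      have h5 : dec 1 = dec 4 := ((M : O8) : V ≃ₗ[ZMod 2] V).injective (by rw [e, h, h4])
      exact absurd (dec_inj (by norm_num) (by norm_num) h5) (by norm_num)
    · refine ⟨dec b, ?_, ?_⟩
      · unfold three
        simp only [List.mem_cons, List.not_mem_nil, or_false] at hb
        rcases hb with rfl | rfl | rfl <;> simp
      · rcases h with h | h
        · left; rw [e, h]
        · right; rw [e, h, dec_xor]
  choose φ hφ hφ' using hval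
  have hinj : Function.Injective (fun M : P => (⟨φ M, hφ M⟩ : {x // x ∈ three})) := by
    intro M N hMN
    have h1 : φ M = φ N := congrArg Subtype.val hMN
    -- `N⁻¹ M`
    obtain ⟨k, hk⟩ := hP (N⁻¹ * M)
    have h2 : (((N⁻¹ * M : P) : O8) : V ≃ₗ[ZMod 2] V) ^ (3 ^ k) = 1 := by
      have := congrArg (fun x : P => ((x : O8) : V ≃ₗ[ZMod 2] V)) hk
      simpa using this
    have hNinv : ∀ v, ((N : O8) : V ≃ₗ[ZMod 2] V)⁻¹ (((N : O8) : V ≃ₗ[ZMod 2] V) v) = v := fun v => by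
      have : (((N : O8) : V ≃ₗ[ZMod 2] V)⁻¹ * ((N : O8) : V ≃ₗ[ZMod 2] V)) v = v := by
        rw [inv_mul_cancel]; rfl
      exact this
    have h4 : ((N : O8) : V ≃ₗ[ZMod 2] V) (dec 4) = dec 4 := by
      have hM := (N : O8).2
      have hw' : ∀ v, ((w0 : Om) : V ≃ₗ[ZMod 2] V) (((N : O8) : V ≃ₗ[ZMod 2] V) v) =
          ((N : O8) : V ≃ₗ[ZMod 2] V) (((w0 : Om) : V ≃ₗ[ZMod 2] V) v) := fun v =>
        (DFunLike.congr_fun (hw N N.2) v).symm
      apply Cfsg.Agent.StdO8.Model.eq_of_B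
      intro v
      obtain ⟨u, rfl⟩ := ((N : O8) : V ≃ₗ[ZMod 2] V).surjective v
      rw [O8_B hM, Cfsg.Agent.StdO8.Model.B_comm (dec 4) (((N : O8) : V ≃ₗ[ZMod 2] V) u), ← form_W', hw', O8_B hM,
        form_W', Cfsg.Agent.StdO8.Model.B_comm]
    have h4' : ((N : O8) : V ≃ₗ[ZMod 2] V)⁻¹ (dec 4) = dec 4 := by
      conv_lhs => rw [← h4]
      exact hNinv _
    have h5 : (((N⁻¹ * M : P) : O8) : V ≃ₗ[ZMod 2] V) (dec 1) = dec 1 ∨
        (((N⁻¹ * M : P) : O8) : V ≃ₗ[ZMod 2] V) (dec 1) = dec 1 + dec 4 := by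
      have h6 : (((N⁻¹ * M : P) : O8) : V ≃ₗ[ZMod 2] V) (dec 1) =
          ((N : O8) : V ≃ₗ[ZMod 2] V)⁻¹ (((M : O8) : V ≃ₗ[ZMod 2] V) (dec 1)) := rfl
      rw [h6]
      have h7 : ((M : O8) : V ≃ₗ[ZMod 2] V) (dec 1) = ((N : O8) : V ≃ₗ[ZMod 2] V) (dec 1) ∨
          ((M : O8) : V ≃ₗ[ZMod 2] V) (dec 1) = ((N : O8) : V ≃ₗ[ZMod 2] V) (dec 1) + dec 4 := by
        rcases hφ' M with a | a <;> rcases hφ' N with b | b
        · left; rw [a, b, h1]
        · right; rw [a, b, h1, add_assoc, Cfsg.Agent.StdO8.Model.add_self, add_zero]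
        · right; rw [a, b, h1]
        · left; rw [a, b, h1]
      rcases h7 with h7 | h7
      · left; rw [h7, hNinv]
      · right; rw [h7, map_add, hNinv, h4']
    have h6 := eq_one (M := (((N⁻¹ * M : P) : O8) : V ≃ₗ[ZMod 2] V)) ((N⁻¹ * M : P) : O8).2 (hw _ (N⁻¹ * M).2)
      (Odd.pow (by decide : Odd 3)) h2 h5
    have h7 : N⁻¹ * M = 1 := Subtype.ext (Subtype.ext h6)
    exact (inv_mul_eq_one.1 h7).symm
  have h1 := Nat.card_le_card_of_injective _ hinj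
  refine h1.trans ?_
  rw [Nat.card_eq_fintype_card, Fintype.card_coe]
  exact Finset.card_le_three

/-! ### The Sylow 3-subgroup of `C_{Aut}(w₀)` -/

/-- the centralizer of `w₀` in `Aut Ω₈⁺(2)` -/
noncomputable def HH : Subgroup (MulAut Om) := MulAction.stabilizer (MulAut Om) w0

theorem mem_HH {γ : MulAut Om} : γ ∈ HH ↔ γ w0 = w0 := Iff.rfl

theorem card_le_nine (P : Subgroup (MulAut Om)) (hP : IsPGroup 3 P) (hw : P ≤ HH) : Nat.card P ≤ 9 := by
  have hinj := Cfsg.Agent.StdO8.Frame.Ctx.cj_injective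
  have h1 : Nat.card (P.comap cj) ≤ 3 := by
    apply card_le_three _ (hP.comap_of_injective cj hinj)
    intro M hM
    have h2 : cj M w0 = w0 := hw hM
    have h3 := congrArg Subtype.val h2
    rw [cj_coe, mul_inv_eq_iff_eq_mul] at h3
    exact h3
  have h2 : Nat.card (cj.range ⊓ P : Subgroup (MulAut Om)) ≤ 3 := by
    rw [← Subgroup.map_comap_eq, Subgroup.card_map_of_injective hinj]
    exact h1
  have h3 : cj.range.relIndex P ≤ 3 := by
    have h4 := Subgroup.relIndex_le_of_le_right (H := cj.range) (le_top : P ≤ ⊤) (by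
      rw [Subgroup.relIndex_top_right, index_range]; norm_num)
    rwa [Subgroup.relIndex_top_right, index_range] at h4
  have h4 : Nat.card (cj.range ⊓ P : Subgroup (MulAut Om)) * cj.range.relIndex P = Nat.card P := by
    have h5 := (cj.range.subgroupOf P).card_mul_index
    have h6 : Nat.card (cj.range.subgroupOf P) = Nat.card (cj.range ⊓ P : Subgroup (MulAut Om)) := by
      rw [← Subgroup.subgroupOf_map_subtype, Subgroup.card_map_of_injective P.subtype_injective]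
    rw [h6] at h5
    exact h5
  rw [← h4]
  exact Nat.mul_le_mul h2 h3

/-- `⟨tri, conj c₀⟩` -/
noncomputable def E0 : Subgroup (MulAut Om) where
  carrier := {γ | ∃ i j : ℕ, γ = K ^ i * tri ^ j}
  one_mem' := ⟨0, 0, by rw [pow_zero, pow_zero, one_mul]⟩
  mul_mem' := by
    rintro _ _ ⟨i, j, rfl⟩ ⟨k, l, rfl⟩
    refine ⟨i + k, j + l, ?_⟩
    have h : Commute (tri ^ j) (K ^ k) := Commute.pow_pow tri_K j k
    rw [pow_add, pow_add, mul_assoc, ← mul_assoc (tri ^ j), h.eq]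
    group
  inv_mem' := by
    rintro _ ⟨i, j, rfl⟩
    refine ⟨2 * i, 2 * j, ?_⟩
    have hK : K ^ 3 = 1 := by rw [pow_succ, pow_two, K_three]
    have hT : tri ^ 3 = 1 := by rw [pow_succ, pow_two, tri_three]
    have h : Commute (tri ^ j) (K ^ (2 * i)) := Commute.pow_pow tri_K j (2 * i)
    rw [inv_eq_iff_mul_eq_one, mul_assoc, ← mul_assoc (tri ^ j), h.eq]
    have h1 : K ^ i * (K ^ (2 * i) * tri ^ j * tri ^ (2 * j)) = K ^ (i + 2 * i) * tri ^ (j + 2 * j) := by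
      rw [pow_add, pow_add]; group
    rw [h1, show i + 2 * i = 3 * i by ring, show j + 2 * j = 3 * j by ring, pow_mul, pow_mul, hK, hT, one_pow, one_pow,
      one_mul]

theorem K_pow : K ^ 3 = 1 := by rw [pow_succ, pow_two, K_three]
theorem tri_pow : tri ^ 3 = 1 := by rw [pow_succ, pow_two, tri_three]

/-- abstract form: a property of the elements of `⟨k⟩ × ⟨t⟩` (exponent 3) closed under squares -/
theorem abs_pow {Γ : Type*} [Group Γ] {k t : Γ} (hc : t * k = k * t) (hk : k ^ 3 = 1) (ht : t ^ 3 = 1) (p : Γ → Prop)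
    (hp : ∀ x, p x → x * x * x = 1 → p (x * x)) (p1 : p k) (p2 : p t) (p3 : p (k * t)) (p4 : p (k * k * t))
    {i j : ℕ} (h : ¬ (3 ∣ i ∧ 3 ∣ j)) : p (k ^ i * t ^ j) := by
  have hcp : ∀ i j : ℕ, Commute (k ^ i) (t ^ j) := fun i j =>
    (Commute.pow_pow (show Commute t k from hc) j i).symm
  have hsq : ∀ i j : ℕ, p (k ^ i * t ^ j) → p (k ^ (2 * i) * t ^ (2 * j)) := by
    intro i j h
    have h1 : k ^ i * t ^ j * (k ^ i * t ^ j) = k ^ (2 * i) * t ^ (2 * j) := by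
      rw [(hcp i j).symm.mul_mul_mul_comm, ← pow_add, ← pow_add, two_mul, two_mul]
    have h2 : k ^ i * t ^ j * (k ^ i * t ^ j) * (k ^ i * t ^ j) = 1 := by
      rw [h1, (hcp i (2 * j)).symm.mul_mul_mul_comm, ← pow_add, ← pow_add, show 2 * i + i = 3 * i by ring,
        show 2 * j + j = 3 * j by ring, pow_mul, pow_mul, hk, ht, one_pow, one_pow, one_mul]
    rw [← h1]
    exact hp _ h h2
  have t10 : p (k ^ 1 * t ^ 0) := by rwa [pow_one, pow_zero, mul_one]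
  have t01 : p (k ^ 0 * t ^ 1) := by rwa [pow_one, pow_zero, one_mul]
  have t11 : p (k ^ 1 * t ^ 1) := by rwa [pow_one, pow_one]
  have t21 : p (k ^ 2 * t ^ 1) := by rwa [pow_two, pow_one]
  have t20 : p (k ^ 2 * t ^ 0) := hsq 1 0 t10
  have t02 : p (k ^ 0 * t ^ 2) := hsq 0 1 t01
  have t22 : p (k ^ 2 * t ^ 2) := hsq 1 1 t11
  have t12 : p (k ^ 1 * t ^ 2) := by
    have h1 := hsq 2 1 t21
    have h2 : k ^ (2 * 2) = k ^ 1 := by
      rw [show 2 * 2 = 3 + 1 from rfl, pow_succ, hk, one_mul, pow_one]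
    rw [h2, Nat.mul_one] at h1
    exact h1
  rw [← Nat.mod_add_div i 3, ← Nat.mod_add_div j 3, pow_add, pow_add, pow_mul, pow_mul, hk, ht, one_pow, one_pow,
    mul_one, mul_one]
  have h5 : i % 3 = 0 ∨ i % 3 = 1 ∨ i % 3 = 2 := by omega
  have h6 : j % 3 = 0 ∨ j % 3 = 1 ∨ j % 3 = 2 := by omega
  rcases h5 with a | a | a <;> rcases h6 with b | b | b <;> rw [a, b]
  · exact absurd ⟨Nat.dvd_of_mod_eq_zero a, Nat.dvd_of_mod_eq_zero b⟩ h
  · exact t01
  · exact t02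
  · exact t10
  · exact t11
  · exact t12
  · exact t20
  · exact t21
  · exact t22

/-- **the elements `≠ (0, 0)` of `E₀` have two triples** -/
theorem twoT_pow {i j : ℕ} (h : ¬ (3 ∣ i ∧ 3 ∣ j)) : TwoT (MulAut.conj w0) (K ^ i * tri ^ j) :=
  abs_pow tri_K K_pow tri_pow (TwoT (MulAut.conj w0)) (fun _ h1 h2 => h1.sq h2) tK tT tTK tTKK h

theorem E0_le : E0 ≤ HH := by
  have hK : K ∈ HH := by
    rw [mem_HH, K, MulAut.conj_apply, c0_w0]
  have hT : tri ∈ HH := tri_w0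
  rintro _ ⟨i, j, rfl⟩
  exact mul_mem (pow_mem hK _) (pow_mem hT _)

theorem E0_pGroup : IsPGroup 3 E0 := by
  rintro ⟨_, i, j, rfl⟩
  refine ⟨1, Subtype.ext ?_⟩
  show (K ^ i * tri ^ j) ^ (3 ^ 1) = 1
  have h : Commute (K ^ i) (tri ^ j) := (Commute.pow_pow tri_K j i).symm
  rw [pow_one, h.mul_pow, ← pow_mul, ← pow_mul, mul_comm i, mul_comm j, pow_mul, pow_mul, K_pow, tri_pow, one_pow,
    one_pow, one_mul]

theorem nine_le : 9 ≤ Nat.card E0 := by
  have hinj : Function.Injective (fun p : Fin 3 × Fin 3 => (⟨K ^ p.1.1 * tri ^ p.2.1, p.1.1, p.2.1, rfl⟩ : E0)) := by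
    rintro ⟨i, j⟩ ⟨k, l⟩ h
    by_contra hne
    have h1 : K ^ i.1 * tri ^ j.1 = K ^ k.1 * tri ^ l.1 := congrArg Subtype.val h
    have h2 : K ^ (i.1 + 2 * k.1) * tri ^ (j.1 + 2 * l.1) = 1 := by
      have hc : Commute (K ^ (2 * k.1)) (tri ^ j.1) := (Commute.pow_pow tri_K j.1 (2 * k.1)).symm
      have hc2 : Commute (K ^ (2 * k.1)) (tri ^ l.1) := (Commute.pow_pow tri_K l.1 (2 * k.1)).symm
      calc K ^ (i.1 + 2 * k.1) * tri ^ (j.1 + 2 * l.1) = K ^ i.1 * (K ^ (2 * k.1) * tri ^ j.1) * tri ^ (2 * l.1) := by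
            rw [pow_add, pow_add]; group
        _ = K ^ i.1 * tri ^ j.1 * (K ^ (2 * k.1) * tri ^ (2 * l.1)) := by rw [hc.eq]; group
        _ = K ^ k.1 * tri ^ l.1 * (K ^ (2 * k.1) * tri ^ (2 * l.1)) := by rw [h1]
        _ = K ^ k.1 * (tri ^ l.1 * K ^ (2 * k.1)) * tri ^ (2 * l.1) := by group
        _ = K ^ k.1 * (K ^ (2 * k.1) * tri ^ l.1) * tri ^ (2 * l.1) := by rw [hc2.eq]
        _ = K ^ (3 * k.1) * tri ^ (3 * l.1) := by
            rw [show 3 * k.1 = k.1 + 2 * k.1 by ring, show 3 * l.1 = l.1 + 2 * l.1 by ring, pow_add, pow_add]; group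
        _ = 1 := by rw [pow_mul, pow_mul, K_pow, tri_pow, one_pow, one_pow, one_mul]
    have h3 : ¬ (3 ∣ i.1 + 2 * k.1 ∧ 3 ∣ j.1 + 2 * l.1) := by
      rintro ⟨h4, h5⟩
      apply hne
      have h6 : i = k := Fin.ext (by omega)
      have h7 : j = l := Fin.ext (by omega)
      rw [h6, h7]
    exact (twoT_pow h3).ne_one h2
  have h1 := Nat.card_le_card_of_injective _ hinj
  rwa [Nat.card_prod, Nat.card_fin] at h1

/-- **The involution `w₀` is dead.** -/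
theorem dead_w0 : Dead w0 := by
  haveI : Fact (Nat.Prime 3) := ⟨Nat.prime_three⟩
  haveI : Finite (MulAut Om) := inferInstance
  refine dead_of_ok Cfsg.Agent.StdO8.Model.center_Om fun β b3 bne hβ => ?_
  -- a Sylow 3-subgroup of `C(w₀)`
  have hE : IsPGroup 3 (E0.subgroupOf HH) := E0_pGroup.comap_of_injective HH.subtype HH.subtype_injective
  obtain ⟨P, hP⟩ := hE.exists_le_sylow
  have hP9 : Nat.card (P : Subgroup HH) ≤ 9 := by
    rw [← Subgroup.card_map_of_injective (f := HH.subtype) HH.subtype_injective]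
    exact card_le_nine _ (P.2.map _) (Subgroup.map_subtype_le _)
  have hPE : (P : Subgroup HH) = E0.subgroupOf HH := by
    refine (Subgroup.eq_of_le_of_card_ge hP (hP9.trans ?_)).symm
    rw [Nat.card_congr (Subgroup.subgroupOfEquivOfLe E0_le).toEquiv]
    exact nine_le
  -- `β` lies in a conjugate
  have hZ : IsPGroup 3 (Subgroup.zpowers (⟨β, hβ⟩ : HH)) := by
    rw [IsPGroup.iff_orderOf]
    rintro ⟨x, hx⟩
    obtain ⟨m, rfl⟩ := Subgroup.mem_zpowers_iff.1 hx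
    have h3 : (⟨β, hβ⟩ : HH) ^ 3 = 1 := Subtype.ext (by
      show β ^ 3 = 1
      rw [pow_succ, pow_two, b3])
    have h4 : orderOf (⟨(⟨β, hβ⟩ : HH) ^ m, hx⟩ : Subgroup.zpowers (⟨β, hβ⟩ : HH)) ∣ 3 := by
      apply orderOf_dvd_of_pow_eq_one
      apply Subtype.ext
      show ((⟨β, hβ⟩ : HH) ^ m) ^ 3 = 1
      rw [← zpow_natCast, ← zpow_mul, mul_comm, zpow_mul, zpow_natCast, h3, one_zpow]
    rcases (Nat.dvd_prime Nat.prime_three).1 h4 with h5 | h5
    · exact ⟨0, by rw [h5, pow_zero]⟩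
    · exact ⟨1, by rw [h5, pow_one]⟩
  obtain ⟨Q, hQ⟩ := hZ.exists_le_sylow
  obtain ⟨g, hg⟩ := MulAction.exists_smul_eq HH Q P
  have h1 : g * ⟨β, hβ⟩ * g⁻¹ ∈ (P : Subgroup HH) := by
    rw [← hg]
    exact Subgroup.smul_mem_pointwise_smul _ (MulAut.conj g) _ (hQ (Subgroup.mem_zpowers _))
  rw [hPE] at h1
  obtain ⟨i, j, h2⟩ : ∃ i j : ℕ, (g : MulAut Om) * β * (g : MulAut Om)⁻¹ = K ^ i * tri ^ j := h1
  have h3 : ¬ (3 ∣ i ∧ 3 ∣ j) := by
    rintro ⟨⟨a, rfl⟩, ⟨b, rfl⟩⟩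
    rw [pow_mul, pow_mul, K_pow, tri_pow, one_pow, one_pow, one_mul] at h2
    apply bne
    have h4 : β = (g : MulAut Om)⁻¹ * ((g : MulAut Om) * β * (g : MulAut Om)⁻¹) * g := by group
    rw [h4, h2]; group
  have h4 := twoT_pow h3
  rw [← h2] at h4
  have hg' : (g : MulAut Om)⁻¹ w0 = w0 := (g⁻¹).2
  have h5 := h4.conj hg'
  have h6 : (g : MulAut Om)⁻¹ * ((g : MulAut Om) * β * (g : MulAut Om)⁻¹) * (g : MulAut Om)⁻¹⁻¹ = β := by group
  rw [h6] at h5
  exact h5.ok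

end Cfsg.Agent.OddHalf.NI3.Ex4.O8.CFour
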