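import Cfsg.Agent.OddHalf.NI3.Ex4.OEight.Base
import Cfsg.Agent.StdO8.Frame

/-!
# (EX4), the row `Ω₈⁺(2)`: the involutions of type `c₂` (helper40, piece (P2) of helper219)

`dead_c2` : an involution `w = X s n`, `q s = 0`, `q n = 1`, is `Dead`.

An automorphism `β` of order 3 fixing `w` is the conjugation with an isometry `M` of order 3 which fixes `s` and `n`.
For `a + M a + M² a = 0`, `a ≠ 0`, the element `X s a` is a triple. If there is only one such `⟨M⟩`-orbit `a, M a, M² a`,
then there is a second singular vector `s'` fixed by `M` and orthogonal to `s` and `n`, and `X s' a` is a triple.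
-/

set_option autoImplicit false
set_option linter.style.haveILetI false

namespace Cfsg.Agent.OddHalf.NI3.Ex4.O8.CTwo

open Subgroup Cfsg Cfsg.Agent.OddHalf.NI3.ExTri
open Cfsg.Agent.StdO8.Model Cfsg.Agent.StdO8.Aut

theorem two_smul' (v : V) : (2 : ℕ) • v = 0 := by rw [two_nsmul, add_self]

/-- the linear data -/
structure Dat (M : V ≃ₗ[ZMod 2] V) (s n : V) : Prop where
  mem : M ∈ O8
  m3 : ∀ v, M (M (M v)) = v
  ms : M s = s
  mn : M n = n
  qs : q s = 0
  s0 : s ≠ 0
  sn : B s n = 0
  qn : q n = 1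

section Lin

variable {M : V ≃ₗ[ZMod 2] V} {s n : V}

/-- fixed vectors are orthogonal to the vectors of trace 0 -/
theorem perp (hM : M ∈ O8) {x a : V} (hx : M x = x) (ha : a + M a + M (M a) = 0) : B x a = 0 := by
  have h1 : B x (M a) = B x a := by
    have := O8_B hM x a
    rwa [hx] at this
  have h2 : B x (M (M a)) = B x (M a) := by
    have := O8_B hM x (M a)
    rwa [hx] at this
  have h3 : B x (a + M a + M (M a)) = 0 := by rw [ha, B_zero_right]
  rw [B_add_right, B_add_right, h2, h1] at h3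
  have : ∀ c : ZMod 2, c + c + c = 0 → c = 0 := by decide
  exact this _ h3

theorem M_ne {a : V} (ha : a + M a + M (M a) = 0) (h0 : a ≠ 0) : M a ≠ a := by
  intro h1
  rw [h1, h1, add_self, zero_add] at ha
  exact h0 ha

/-- `X s a ≠ 1` -/
theorem X_ne_one {s a : V} (hs : q s = 0) (s0 : s ≠ 0) (hsa : B s a = 0) (h0 : a ≠ 0) (h1 : a ≠ s) : X s a ≠ 1 := by
  intro h
  obtain ⟨v, e1, e2⟩ := exists_B s0 h0 h1.symm 1 0
  have h2 : X s a v = v := by rw [h]; rfl
  rw [X_apply' hs hsa, e1, e2, one_smul, zero_smul, add_zero, mul_one, add_assoc] at h2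
  have h3 : a + q a • s = 0 := add_eq_left.1 h2
  rcases z2 (q a) with h4 | h4
  · rw [h4, zero_smul, add_zero] at h3
    exact h0 h3
  · rw [h4, one_smul] at h3
    exact h1 (eq_of_add_eq_zero h3)

/-- two transformations with different centres fixed by `M` -/
theorem X_ne {s s' a a' : V} (hs : q s = 0) (hs' : q s' = 0) (s0 : s ≠ 0) (s0' : s' ≠ 0) (hne : s' ≠ s)
    (h : B s a' = 0) (h' : B s' a = 0) (ms : M s = s) (ms' : M s' = s') (ma : M a ≠ a) : X s' a ≠ X s a' := by
  intro e
  obtain ⟨v, e1, e2⟩ := exists_B s0' s0 hne 1 0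
  have h2 : X s' a v = X s a' v := by rw [e]
  rw [X_apply' hs' h', X_apply' hs h, e1, e2, one_smul, mul_one, mul_zero, zero_smul, zero_smul, add_zero, add_zero]
    at h2
  have h3 : a = B a' v • s + (B a v • s' + q a • s') := by
    have h4 : v + (a + (B a v • s' + q a • s')) = v + B a' v • s := by rw [← h2]; abel
    have h5 := add_left_cancel h4
    calc a = a + ((B a v • s' + q a • s') + (B a v • s' + q a • s')) := by rw [add_self, add_zero]
      _ = (a + (B a v • s' + q a • s')) + (B a v • s' + q a • s') := by abel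
      _ = _ := by rw [h5]
  apply ma
  conv_lhs => rw [h3]
  rw [map_add, map_add, map_smul, map_smul, map_smul, ms, ms', ← h3]

namespace Dat

variable (D : Dat M s n)

include D

theorem n0 : n ≠ 0 := by
  intro h
  have h1 := D.qn
  rw [h, q_zero] at h1
  exact absurd h1 (by decide)

/-- the trace is fixed -/
theorem fix_tr (v : V) : M (v + M v + M (M v)) = v + M v + M (M v) := by
  rw [map_add, map_add, D.m3]; abel

/-- `v + M v` has trace 0 -/
theorem tr_add (v : V) : (v + M v) + M (v + M v) + M (M (v + M v)) = 0 := by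
  have h1 := D.m3 v
  simp only [map_add]
  rw [h1]
  calc v + M v + (M v + M (M v)) + (M (M v) + v) = (v + v) + (M v + M v) + (M (M v) + M (M v)) := by abel
    _ = 0 := by rw [add_self v, add_self (M v), add_self (M (M v)), zero_add, zero_add]

/-- a second orbit of vectors of trace 0, or a second fixed singular vector -/
theorem second {a : V} (ha : a + M a + M (M a) = 0) (h0 : a ≠ 0) :
    (∃ c, c + M c + M (M c) = 0 ∧ c ≠ 0 ∧ c ≠ a ∧ c ≠ M a ∧ c ≠ M (M a)) ∨
      ∃ s', q s' = 0 ∧ M s' = s' ∧ s' ≠ 0 ∧ s' ≠ s ∧ B s s' = 0 ∧ B n s' = 0 := by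
  by_cases hc : ∃ c, c + M c + M (M c) = 0 ∧ c ≠ 0 ∧ c ≠ a ∧ c ≠ M a ∧ c ≠ M (M a)
  · exact Or.inl hc
  right
  have all : ∀ c, c + M c + M (M c) = 0 → c = 0 ∨ c = a ∨ c = M a ∨ c = M (M a) := by
    intro c h1
    by_contra hcon
    push Not at hcon
    exact hc ⟨c, h1, hcon.1, hcon.2.1, hcon.2.2.1, hcon.2.2.2⟩
  have e2 : M (M a) = a + M a := by
    have h1 : M (M a) + (a + M a) = 0 := by rw [← ha]; abel
    exact eq_of_add_eq_zero h1
  -- `B a (M a) = 1`
  have h1 : B a (M a) = 1 := by
    refine (z2 _).resolve_left fun h2 => h0 (nondeg fun v => ?_)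
    have h3 : B a v = B a (v + (v + M v + M (M v))) + B a (v + M v + M (M v)) := by
      rw [← B_add_right, add_assoc, add_self, add_zero]
    have h4 : B a (v + M v + M (M v)) = 0 := by
      rw [B_comm]
      exact perp D.mem (D.fix_tr v) ha
    have h5 : v + (v + M v + M (M v)) = M v + M (M v) := by
      calc v + (v + M v + M (M v)) = (v + v) + (M v + M (M v)) := by abel
        _ = _ := by rw [add_self, zero_add]
    rw [h3, h4, add_zero, h5]
    rcases all _ (D.tr_add (M v)) with h6 | h6 | h6 | h6 <;> rw [h6]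
    · exact B_zero_right a
    · exact B_self a
    · exact h2
    · rw [e2, B_add_right, B_self, h2, add_zero]
  -- a vector `y`
  obtain ⟨y, hya, hyM, hys, hyn, hy⟩ : ∃ y, B y a = 0 ∧ B y (M a) = 0 ∧ B y s = 0 ∧ B y n = 0 ∧
      y ∉ Submodule.span (ZMod 2) ({s, n} : Set V) := by
    let f : V →ₗ[ZMod 2] (Fin 4 → ZMod 2) :=
      { toFun := fun y => ![B y a, B y (M a), B y s, B y n]
        map_add' := fun y z => by
          funext i
          fin_cases i
          · exact B_add_left _ _ _
          · exact B_add_left _ _ _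
          · exact B_add_left _ _ _
          · exact B_add_left _ _ _
        map_smul' := fun c y => by
          funext i
          fin_cases i
          · exact B_smul_left _ _ _
          · exact B_smul_left _ _ _
          · exact B_smul_left _ _ _
          · exact B_smul_left _ _ _ }
    have h2 := LinearMap.finrank_range_add_finrank_ker f
    have h3 : Module.finrank (ZMod 2) (LinearMap.range f) ≤ 4 := by
      have := Submodule.finrank_le (LinearMap.range f)
      rwa [Module.finrank_fintype_fun_eq_card, Fintype.card_fin] at this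
    rw [finrank_V] at h2
    by_contra hcon
    push Not at hcon
    have h4 : LinearMap.ker f ≤ Submodule.span (ZMod 2) ({s, n} : Set V) := by
      intro y hy
      have h5 : ![B y a, B y (M a), B y s, B y n] = 0 := hy
      exact hcon y (congrFun h5 0) (congrFun h5 1) (congrFun h5 2) (congrFun h5 3)
    have h5 := Submodule.finrank_mono h4
    have h6 : Module.finrank (ZMod 2) (Submodule.span (ZMod 2) ({s, n} : Set V)) ≤ 2 := by
      classical
      have h7 : ({s, n} : Set V) = (({s, n} : Finset V) : Set V) := by simp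
      rw [h7]
      exact (finrank_span_finset_le_card _).trans Finset.card_le_two
    omega
  have y0 : y ≠ 0 := fun h => hy (h ▸ zero_mem _)
  have ys : y ≠ s := fun h => hy (h ▸ Submodule.subset_span (by simp))
  have yn : y ≠ n := fun h => hy (h ▸ Submodule.subset_span (by simp))
  have ysn : y ≠ s + n := fun h => hy (h ▸ add_mem (Submodule.subset_span (by simp)) (Submodule.subset_span (by simp)))
  -- `M y = y`
  have My : M y = y := by
    have h2 : B (M y) a = 0 := by
      have h3 := O8_B D.mem y (M (M a))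
      rw [D.m3] at h3
      rw [h3, e2, B_add_right, hya, hyM, add_zero]
    have h3 : B (M y) (M a) = 0 := by rw [O8_B D.mem]; exact hya
    have h4 : B (y + M y) a = 0 := by rw [B_add_left, hya, h2, add_zero]
    have h5 : B (y + M y) (M a) = 0 := by rw [B_add_left, hyM, h3, add_zero]
    have h6 : y + M y = 0 := by
      rcases all _ (D.tr_add y) with h6 | h6 | h6 | h6
      · exact h6
      · rw [h6, h1] at h5; exact absurd h5 (by decide)
      · rw [h6, B_comm, h1] at h4; exact absurd h4 (by decide)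
      · rw [h6, e2, B_add_left, B_self, B_comm (M a) a, h1] at h4; exact absurd h4 (by decide)
    exact (eq_of_add_eq_zero h6).symm
  rcases z2 (q y) with hq | hq
  · exact ⟨y, hq, My, y0, ys, by rw [B_comm]; exact hys, by rw [B_comm]; exact hyn⟩
  · refine ⟨y + n, ?_, ?_, ?_, ?_, ?_, ?_⟩
    · rw [q_add, hq, D.qn, hyn]; decide
    · rw [map_add, My, D.mn]
    · intro h; exact yn (eq_of_add_eq_zero h)
    · intro h
      apply ysn
      rw [← h, add_assoc, add_self, add_zero]
    · rw [B_add_right, B_comm s y, hys, D.sn, add_zero]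
    · rw [B_add_right, B_comm n y, hyn, B_self, add_zero]

/-- the triples -/
theorem tri {w : Om} (hw : (w : V ≃ₗ[ZMod 2] V) = X s n) {s' a : V} (qs' : q s' = 0) (ms' : M s' = s')
    (s0' : s' ≠ 0) (hss : B s s' = 0) (hns : B n s' = 0) (ha : a + M a + M (M a) = 0) (h0 : a ≠ 0) :
    Tri (MulAut.conj w) (cj ⟨M, D.mem⟩) (⟨X s' a, X_mem s' a⟩ : Om) := by
  have hsa : B s' a = 0 := perp D.mem ms' ha
  have hMa := M_ne ha h0
  have hca : ∀ c : V, cj ⟨M, D.mem⟩ (⟨X s' c, X_mem s' c⟩ : Om) = ⟨X s' (M c), X_mem s' (M c)⟩ := by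
    intro c
    apply Subtype.ext
    rw [cj_coe]
    show M * X s' c * M⁻¹ = X s' (M c)
    rw [X_conj D.mem, ms']
  refine ⟨?_, ?_, ?_, ?_⟩
  · apply Subtype.ext
    show (w : V ≃ₗ[ZMod 2] V) * X s' a * (w : V ≃ₗ[ZMod 2] V)⁻¹ = X s' a
    have h1 : X s n s' = s' := by
      rw [X_apply' D.qs D.sn, hss, hns]
      simp
    have h2 : X s n a = a := by
      rw [X_apply' D.qs D.sn, perp D.mem D.ms ha, perp D.mem D.mn ha]
      simp
    rw [hw, X_conj (X_mem_O8 s n), h1, h2]
  · exact Subtype.ext (X_mul_self s' a)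
  · intro h1
    have h2 : X s' a = 1 := congrArg Subtype.val h1
    refine X_ne_one qs' s0' hsa h0 ?_ h2
    rintro rfl
    exact hMa ms'
  · rw [hca, hca]
    apply Subtype.ext
    show X s' a * X s' (M a) * X s' (M (M a)) = 1
    have h1 : B s' (M a) = 0 := perp D.mem ms' (by
      have := congrArg M ha
      rw [map_add, map_add, map_zero] at this
      exact this)
    have h2 : B s' (M (M a)) = 0 := perp D.mem ms' (by
      have := congrArg M (congrArg M ha)
      rw [map_add, map_add, map_add, map_add, map_zero, map_zero] at this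
      exact this)
    rw [X_mul qs' hsa h1, X_mul qs' (by rw [B_add_right, hsa, h1, add_zero]) h2, ha, X_zero_right]

/-- **Two triples.** -/
theorem ok {w : Om} (hw : (w : V ≃ₗ[ZMod 2] V) = X s n) (hM : ∃ v, M v ≠ v) :
    Ok (MulAut.conj w) (cj ⟨M, D.mem⟩) := by
  right
  obtain ⟨v, hv⟩ := hM
  have ha := D.tr_add v
  have h0 : v + M v ≠ 0 := fun h => hv (eq_of_add_eq_zero h).symm
  generalize v + M v = a at ha h0
  have hMa := M_ne ha h0
  have hca : ∀ c : V, cj ⟨M, D.mem⟩ (⟨X s c, X_mem s c⟩ : Om) = ⟨X s (M c), X_mem s (M c)⟩ := by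
    intro c
    apply Subtype.ext
    rw [cj_coe]
    show M * X s c * M⁻¹ = X s (M c)
    rw [X_conj D.mem, D.ms]
  have hsn : B n s = 0 := by rw [B_comm]; exact D.sn
  have t1 := D.tri hw D.qs D.ms D.s0 (B_self s) hsn ha h0
  have trM : ∀ {c : V}, c + M c + M (M c) = 0 → M c + M (M c) + M (M (M c)) = 0 := by
    intro c hc
    have := congrArg M hc
    rw [map_add, map_add, map_zero] at this
    exact this
  rcases D.second ha h0 with ⟨c, hc, c0, c1, c2, c3⟩ | ⟨s', q', m', n0', n1', b1, b2⟩
  · have t2 := D.tri hw D.qs D.ms D.s0 (B_self s) hsn hc c0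
    have key : ∀ d, d + M d + M (M d) = 0 → c ≠ d → (⟨X s c, X_mem s c⟩ : Om) ≠ ⟨X s d, X_mem s d⟩ := by
      intro d hd hcd h
      have h1 : X s c = X s d := congrArg Subtype.val h
      have h2 : X s (c + d) = 1 := by
        rw [← X_mul D.qs (perp D.mem D.ms hc) (perp D.mem D.ms hd), h1, X_mul_self]
      have h3 : (c + d) + M (c + d) + M (M (c + d)) = 0 := by
        simp only [map_add]
        calc c + d + (M c + M d) + (M (M c) + M (M d)) = (c + M c + M (M c)) + (d + M d + M (M d)) := by abel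
          _ = 0 := by rw [hc, hd, add_zero]
      refine X_ne_one D.qs D.s0 (perp D.mem D.ms h3) (fun h4 => hcd (eq_of_add_eq_zero h4)) ?_ h2
      intro h4
      have h5 : c + d ≠ 0 := fun h6 => hcd (eq_of_add_eq_zero h6)
      apply M_ne h3 h5
      rw [h4]; exact D.ms
    refine ⟨_, _, t1, t2, key a ha c1, ?_, ?_⟩
    · rw [hca]
      exact key _ (trM ha) c2
    · rw [hca, hca]
      exact key _ (trM (trM ha)) c3
  · have t2 := D.tri hw q' m' n0' b1 b2 ha h0
    have key : ∀ d, d + M d + M (M d) = 0 → (⟨X s' a, X_mem s' a⟩ : Om) ≠ ⟨X s d, X_mem s d⟩ := by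
      intro d hd h
      exact X_ne D.qs q' D.s0 n0' n1' (perp D.mem D.ms hd) (perp D.mem m' ha) D.ms m' hMa (congrArg Subtype.val h)
    refine ⟨_, _, t1, t2, key a ha, ?_, ?_⟩
    · rw [hca]
      exact key _ (trM ha)
    · rw [hca, hca]
      exact key _ (trM (trM ha))

end Dat

/-- an isometry commuting with `X s n` -/
theorem fix_s {M : V ≃ₗ[ZMod 2] V} (hM : M ∈ O8) {s n : V} (qs : q s = 0) (s0 : s ≠ 0) (sn : B s n = 0) (qn : q n = 1)
    (he : X (M s) (M n) = X s n) : M s = s := by
  have hn0 : n ≠ 0 := by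
    rintro rfl
    rw [q_zero] at qn
    exact absurd qn (by decide)
  have hsn : s ≠ n := by
    rintro rfl
    rw [qs] at qn
    exact absurd qn (by decide)
  obtain ⟨v, e1, e2⟩ := exists_B s0 hn0 hsn 0 1
  have h1 : X (M s) (M n) v = X s n v := by rw [he]
  have g1 : q (M s) = 0 := by rw [O8_q hM, qs]
  have g2 : B (M s) (M n) = 0 := by rw [O8_B hM, sn]
  have g3 : q (M n) = 1 := by rw [O8_q hM, qn]
  rw [X_apply' g1 g2, X_apply' qs sn, e1, e2, g3, qn, zero_smul, mul_zero, zero_smul, one_smul, add_zero, add_zero,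
    one_mul, add_assoc, add_assoc] at h1
  have h2 := add_left_cancel h1
  rcases z2 (B (M s) v) with f1 | f1 <;> rcases z2 (B (M n) v) with f2 | f2 <;> rw [f1, f2] at h2
  · exfalso
    rw [zero_smul, zero_smul, add_zero, add_zero] at h2
    exact s0 h2.symm
  · rwa [zero_smul, zero_smul, one_smul, add_zero, zero_add] at h2
  · exfalso
    rw [one_smul, one_smul, zero_smul, zero_add] at h2
    have h4 : q (M n + M s) = 1 := by rw [q_add, g3, g1, B_comm, g2]; decide
    rw [h2, qs] at h4
    exact absurd h4 (by decide)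
  · exfalso
    rw [one_smul, one_smul, add_self, add_zero] at h2
    rw [h2, qs] at g3
    exact absurd g3 (by decide)

theorem fix_n {M : V ≃ₗ[ZMod 2] V} (hM : M ∈ O8) (m3 : ∀ v, M (M (M v)) = v) {s n : V} (qs : q s = 0) (s0 : s ≠ 0)
    (sn : B s n = 0) (qn : q n = 1) (he : X (M s) (M n) = X s n) : M n = n := by
  have ms := fix_s hM qs s0 sn qn he
  have hn0 : n ≠ 0 := by
    rintro rfl
    rw [q_zero] at qn
    exact absurd qn (by decide)
  have hsn : s ≠ n := by
    rintro rfl
    rw [qs] at qn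
    exact absurd qn (by decide)
  obtain ⟨v, e1, e2⟩ := exists_B s0 hn0 hsn 1 0
  rw [ms] at he
  have h1 : X s (M n) v = X s n v := by rw [he]
  have g2 : B s (M n) = 0 := by
    have := O8_B hM s n
    rw [ms] at this
    rw [this, sn]
  have g3 : q (M n) = 1 := by rw [O8_q hM, qn]
  rw [X_apply' qs g2, X_apply' qs sn, e1, e2, g3, qn, one_mul, one_smul, one_smul, one_smul, zero_smul, add_zero]
    at h1
  have h2 : v + (M n + B (M n) v • s) = v + n := by
    have h3 : v + (M n + B (M n) v • s) + s = v + n + s := by rw [← h1]; abel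
    exact add_right_cancel h3
  have h3 := add_left_cancel h2
  rcases z2 (B (M n) v) with f | f
  · rw [f, zero_smul, add_zero] at h3
    exact h3
  · exfalso
    rw [f, one_smul] at h3
    have h4 : M n = n + s := by
      calc M n = M n + (s + s) := by rw [add_self, add_zero]
        _ = (M n + s) + s := by abel
        _ = n + s := by rw [h3]
    have h5 : M (M n) = n := by rw [h4, map_add, h4, ms, add_assoc, add_self, add_zero]
    have h6 := m3 n
    rw [h5, h4] at h6
    exact s0 (add_eq_left.1 h6)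

end Lin

/-- **The involutions of type `c₂` are dead.** -/
theorem dead_c2 (w : Om) (hc : IsC2 (w : V ≃ₗ[ZMod 2] V)) : Dead w := by
  have : Finite Om := inferInstance
  refine dead_of_ok center_Om fun β h3 h1 hw => ?_
  obtain ⟨⟨M, hM⟩, rfl⟩ := mem_range_of_c2 hc (by rw [hw]; exact hc)
  obtain ⟨s, n, qs, s0, sn, qn, hX⟩ := hc
  have m3' : (⟨M, hM⟩ : O8) * ⟨M, hM⟩ * ⟨M, hM⟩ = 1 := by
    apply Cfsg.Agent.StdO8.Frame.Ctx.cj_injective
    rw [map_mul, map_mul, map_one]
    exact h3
  have m3 : ∀ v, M (M (M v)) = v := by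
    intro v
    have h4 := congrArg (fun g : O8 => (g : V ≃ₗ[ZMod 2] V) v) m3'
    exact h4
  have he : X (M s) (M n) = X s n := by
    have h4 := congrArg (Subtype.val : Om → (V ≃ₗ[ZMod 2] V)) hw
    rw [cj_coe, hX] at h4
    rw [← X_conj hM]
    exact h4
  have D : Dat M s n := ⟨hM, m3, fix_s hM qs s0 sn qn he, fix_n hM m3 qs s0 sn qn he, qs, s0, sn, qn⟩
  refine D.ok hX ?_
  by_contra hcon
  push Not at hcon
  apply h1
  have h4 : (⟨M, hM⟩ : O8) = 1 := Subtype.ext (LinearEquiv.ext hcon)
  rw [h4, map_one]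

end Cfsg.Agent.OddHalf.NI3.Ex4.O8.CTwo

namespace Cfsg.Agent.OddHalf.NI3.Ex4.O8

/-- (P2) -/
theorem dead_c2 {w : Cfsg.Agent.StdO8.Model.Om}
    (hc : Cfsg.Agent.StdO8.Aut.IsC2 (w : Cfsg.Agent.StdO8.Model.V ≃ₗ[ZMod 2] Cfsg.Agent.StdO8.Model.V)) : Dead w :=
  CTwo.dead_c2 w hc

end Cfsg.Agent.OddHalf.NI3.Ex4.O8
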