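import Cfsg.Agent.OddHalf.NI3.Ex4.OEight.Base
import Cfsg.Agent.StdO8.EvenLin

/-!
# (EX4), the row `Ω₈⁺(2)`: the involutions

`OEClass.main`: every involution of `Ω₈⁺(2)` is mapped by an automorphism to a root element, to an involution of type `c₂` or to
`w0`.
-/

set_option autoImplicit false
set_option linter.style.haveILetI false

namespace Cfsg.Agent.OddHalf.NI3.Ex4.OEClass

open Cfsg.Agent.StdO8.Model Cfsg.Agent.StdO8.Bas Cfsg.Agent.StdO8.EvenLin
open Cfsg.Agent.StdO8.Aut (cj cj_coe IsC2)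
open Cfsg.Agent.StdO8.Root (IsRoot isRoot_of_sub)
open Cfsg.Agent.StdO8.DataOf (xm)
open Cfsg.Agent.StdO8.Tri (tri tri_xm rho)
open Cfsg.Agent.ClassicalGeometry.OrthAut1 (TS)
open Cfsg.Agent.LieClassical.OrthCore (refl refl_apply refl_mem_O refl_mul_self)

/-- the image of `N M` -/
def Im (M : V ≃ₗ[ZMod 2] V) : Submodule (ZMod 2) V where
  carrier := {w | ∃ v, N M v = w}
  zero_mem' := ⟨0, by unfold N; rw [map_zero, add_zero]⟩
  add_mem' := by
    rintro _ _ ⟨v, rfl⟩ ⟨w, rfl⟩
    exact ⟨v + w, N_add _ _ _⟩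
  smul_mem' := by
    rintro a _ ⟨v, rfl⟩
    exact ⟨a • v, N_smul _ _ _⟩

theorem mem_Im {M : V ≃ₗ[ZMod 2] V} (v : V) : N M v ∈ Im M := ⟨v, rfl⟩

theorem ts_Im {M : V ≃ₗ[ZMod 2] V} (h : TSI M) : TS q (Im M) := by
  rintro _ ⟨v, rfl⟩
  exact h v

/-- A totally singular subspace with an orthogonal vector outside has dimension at most three. -/
theorem fr_le {K : Submodule (ZMod 2) V} (hTS : TS q K) {n : V} (hn : n ∉ K) (h : ∀ v ∈ K, B v n = 0) :
    Module.finrank (ZMod 2) K ≤ 3 := by
  have hnd : (QuadraticMap.polarBilin q).Nondegenerate := by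
    refine ⟨fun a ha => good.nondeg a ha, fun a ha => good.nondeg a fun b => ?_⟩
    rw [QuadraticMap.polar_comm]
    exact ha b
  have h1 := LinearMap.BilinForm.finrank_orthogonal hnd K
  rw [finrank_V] at h1
  have h2 : K < LinearMap.BilinForm.orthogonal (QuadraticMap.polarBilin q) K := by
    refine lt_of_le_of_ne ?_ ?_
    · intro w hw
      rw [LinearMap.BilinForm.mem_orthogonal_iff]
      intro v hv
      exact hTS.polar hv hw
    · intro e
      apply hn
      rw [e, LinearMap.BilinForm.mem_orthogonal_iff]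
      exact h
  have h3 := Submodule.finrank_lt_finrank_of_lt h2
  omega

/-- the vectors of a root element are in the image -/
theorem vec_X {u w : V} (hu : q u = 0) (hw : q w = 0) (huw : B u w = 0) (hu0 : u ≠ 0) (hw0 : w ≠ 0) (hne : u ≠ w) :
    u ∈ Im (X u w) ∧ w ∈ Im (X u w) := by
  have hXN : ∀ v, N (X u w) v = B u v • w + B w v • u := fun v => by
    show X u w v + v = _
    rw [X_apply hu hw huw]
    calc v + B u v • w + B w v • u + v = (v + v) + (B u v • w + B w v • u) := by abel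
      _ = _ := by rw [add_self, zero_add]
  obtain ⟨v1, a1, a2⟩ := exists_B hu0 hw0 hne 1 0
  obtain ⟨v2, b1, b2⟩ := exists_B hu0 hw0 hne 0 1
  exact ⟨⟨v2, by rw [hXN, b1, b2, zero_smul, one_smul, zero_add]⟩,
    ⟨v1, by rw [hXN, a1, a2, zero_smul, one_smul, add_zero]⟩⟩

/-- **Case (a)**: totally singular involutions. -/
theorem tsi_cases {M : V ≃ₗ[ZMod 2] V} (hM : M ∈ O8) (h : TSI M) (h1 : M ≠ 1) :
    IsRoot M ∨ ∃ g ∈ O8, g * M * g⁻¹ = X (bv 0) (bv 1) * X (bv 2) (bv 3) := by
  obtain ⟨v0, hv0⟩ : ∃ v0, N M v0 ≠ 0 := by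
    by_contra hcon
    push Not at hcon
    apply h1
    ext v : 1
    exact N_eq_zero.1 (hcon v)
  obtain ⟨w1, hw1⟩ := exists_one hv0
  have hs := symm_of hM h.isot
  have fixN : ∀ v, M (N M v) = N M v := fun v => by
    rw [← N_eq_zero]
    refine Cfsg.Agent.StdO8.Model.nondeg fun w => ?_
    rw [← hs, h.isot]
  have hN := N_X hM (h v0) (h.isot v0 w1) (fixN v0) (fixN w1)
  have hN' : ∀ v, N (X (N M v0) (N M w1) * M) v = N M v + B (N M v0) v • N M w1 + B (N M w1) v • N M v0 := fun v => by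
    rw [hN, h w1, zero_mul, zero_smul, add_zero]
  have hB : B (N M w1) v0 = 1 := by rw [B_comm, hs, hw1]
  obtain ⟨a, ha⟩ : ∃ a, a = N M v0 := ⟨_, rfl⟩
  obtain ⟨b, hb⟩ : ∃ b, b = N M w1 := ⟨_, rfl⟩
  rw [← ha, ← hb] at hN'
  have hqa : q a = 0 := by rw [ha]; exact h _
  have hqb : q b = 0 := by rw [hb]; exact h _
  have hab : B a b = 0 := by rw [ha, hb]; exact h.isot _ _
  have haI : a ∈ Im M := ⟨v0, ha.symm⟩
  have hbI : b ∈ Im M := ⟨w1, hb.symm⟩
  obtain ⟨R, hR⟩ : ∃ R, R = X a b * M := ⟨_, rfl⟩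
  rw [← hR] at hN'
  have hRO : R ∈ O8 := by rw [hR]; exact mul_mem (X_mem_O8 _ _) hM
  have hMR : M = X a b * R := by rw [hR, ← mul_assoc, X_mul_self, one_mul]
  have hle : Im R ≤ Im M := by
    rintro _ ⟨v, rfl⟩
    rw [hN' v]
    exact add_mem (add_mem (mem_Im v) (Submodule.smul_mem _ _ hbI)) (Submodule.smul_mem _ _ haI)
  have hTR : TSI R := fun v => ts_Im h _ (hle (mem_Im v))
  have hsR := symm_of hRO hTR.isot
  have hRv0 : N R v0 = 0 := by
    have e1 : B a v0 = 0 := by rw [ha]; exact h.alt hM v0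
    rw [← hb] at hB
    rw [hN', e1, hB, zero_smul, add_zero, one_smul, ← ha, add_self]
  have hbR : b ∉ Im R := by
    rintro ⟨v, hv⟩
    have e1 : B (N R v) v0 = 0 := by rw [← hsR, hRv0, B_zero_right]
    rw [hv, hb, hB] at e1
    exact absurd e1 (by decide)
  have hk := fr_le (ts_Im hTR) hbR (fun v hv => (ts_Im h).polar (hle hv) hbI)
  by_cases hR1 : R = 1
  · left
    rw [hMR, hR1, mul_one]
    refine ⟨a, b, hqa, hqb, hab, by rw [ha]; exact hv0, ?_, ?_, rfl⟩
    · intro h0
      rw [← hb, h0, B_zero_left] at hB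
      exact absurd hB (by decide)
    · intro h0
      have e1 : B a v0 = 0 := by rw [ha]; exact h.alt hM v0
      rw [← hb, ← h0, e1] at hB
      exact absurd hB (by decide)
  obtain ⟨u, w, hu, hw, huw, hu0, hw0, hne, e⟩ := isRoot_of_sub (ts_Im hTR) hk hRO hR1 (fun v => ⟨v, rfl⟩)
  have hv := vec_X hu hw huw hu0 hw0 hne
  rw [← e] at hv
  have huI := hle hv.1
  have hwI := hle hv.2
  have hpol : ∀ {x y : V}, x ∈ Im M → y ∈ Im M → B x y = 0 := fun hx hy => (ts_Im h).polar hx hy
  by_cases hli : LinearIndependent (ZMod 2) ![a, b, u, w]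
  · right
    have hbli : LinearIndependent (ZMod 2) ![bv 0, bv 1, bv 2, bv 3] := by
      rw [Fintype.linearIndependent_iff]
      intro x hx
      have hx' : x 0 • bv 0 + x 1 • bv 1 + x 2 • bv 2 + x 3 • bv 3 = 0 := by
        have := hx
        rw [Fin.sum_univ_four] at this
        exact this
      have key : ∀ j : Fin 8, x 0 * B (bv 0) (bv j) + x 1 * B (bv 1) (bv j) + x 2 * B (bv 2) (bv j) + x 3 * B (bv 3) (bv j) = 0 := by
        intro j
        have := congrArg (fun z => B z (bv j)) hx'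
        simp only [B_add_left, B_smul_left, B_zero_left] at this
        exact this
      have k0 := key 4
      have k1 := key 5
      have k2 := key 6
      have k3 := key 7
      simp only [B_bv] at k0 k1 k2 k3
      intro i
      fin_cases i
      · simpa using k0
      · simpa using k1
      · simpa using k2
      · simpa using k3
    have hbB : ∀ i j : Fin 4, B (![bv 0, bv 1, bv 2, bv 3] i) (![bv 0, bv 1, bv 2, bv 3] j) = 0 := by
      intro i j
      fin_cases i <;> fin_cases j <;> (simp only [Fin.zero_eta, Fin.mk_one, Fin.reduceFinMk, Matrix.cons_val]; rw [B_bv]; decide)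
    obtain ⟨g, hg, hgv⟩ := exists_isometry (x := ![a, b, u, w]) (y := ![bv 0, bv 1, bv 2, bv 3]) hli hbli
      (fun i => by
        fin_cases i
        · show q a = q (bv 0)
          rw [hqa, q_bv]
        · show q b = q (bv 1)
          rw [hqb, q_bv]
        · show q u = q (bv 2)
          rw [hu, q_bv]
        · show q w = q (bv 3)
          rw [hw, q_bv])
      (fun i j => by
        rw [hbB]
        have hm : ∀ i : Fin 4, ![a, b, u, w] i ∈ Im M := by
          intro i
          fin_cases i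
          · exact haI
          · exact hbI
          · exact huI
          · exact hwI
        exact hpol (hm i) (hm j))
    have h0 : g a = bv 0 := hgv 0
    have h1 : g b = bv 1 := hgv 1
    have h2 : g u = bv 2 := hgv 2
    have h3 : g w = bv 3 := hgv 3
    refine ⟨g, hg, ?_⟩
    calc g * M * g⁻¹ = (g * X a b * g⁻¹) * (g * X u w * g⁻¹) := by rw [hMR, e]; group
      _ = _ := by rw [X_conj hg, X_conj hg, h0, h1, h2, h3]
  · left
    -- the image of `N M` is in the span of the four vectors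
    have h4 : Im M ≤ Submodule.span (ZMod 2) (Set.range ![a, b, u, w]) := by
      have hm : ∀ i : Fin 4, ![a, b, u, w] i ∈ Submodule.span (ZMod 2) (Set.range ![a, b, u, w]) :=
        fun i => Submodule.subset_span ⟨i, rfl⟩
      have ha' : a ∈ Submodule.span (ZMod 2) (Set.range ![a, b, u, w]) := hm 0
      have hb' : b ∈ Submodule.span (ZMod 2) (Set.range ![a, b, u, w]) := hm 1
      have hu' : u ∈ Submodule.span (ZMod 2) (Set.range ![a, b, u, w]) := hm 2
      have hw' : w ∈ Submodule.span (ZMod 2) (Set.range ![a, b, u, w]) := hm 3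
      rintro _ ⟨v, rfl⟩
      have e1 : N M v = N R v + B a v • b + B b v • a := by
        rw [hN']
        calc N M v = N M v + ((B a v • b + B a v • b) + (B b v • a + B b v • a)) := by
              rw [add_self, add_self, add_zero, add_zero]
          _ = _ := by abel
      have e2 : N R v = B u v • w + B w v • u := by
        show R v + v = _
        rw [e, X_apply hu hw huw]
        calc v + B u v • w + B w v • u + v = (v + v) + (B u v • w + B w v • u) := by abel
          _ = _ := by rw [add_self, zero_add]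
      rw [e1, e2]
      exact add_mem (add_mem (add_mem (Submodule.smul_mem _ _ hw') (Submodule.smul_mem _ _ hu'))
        (Submodule.smul_mem _ _ hb')) (Submodule.smul_mem _ _ ha')
    have h5 : Module.finrank (ZMod 2) (Im M) ≤ 3 := by
      have h6 := Submodule.finrank_mono h4
      rw [linearIndependent_iff_card_le_finrank_span, Fintype.card_fin] at hli
      have h7 : Module.finrank (ZMod 2) (Submodule.span (ZMod 2) (Set.range ![a, b, u, w])) =
        (Set.range ![a, b, u, w]).finrank (ZMod 2) := rfl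
      omega
    exact isRoot_of_sub (ts_Im h) h5 hM h1 (fun v => ⟨v, rfl⟩)

/-- The characteristic vector of an involution of `Om` is singular. -/
theorem qn_zero {M : V ≃ₗ[ZMod 2] V} {n : V} (h : Inv M n) (hM : M ∈ Om) : q n = 0 := by
  refine (z2 _).resolve_right fun hq => ?_
  have hq0 : q n ≠ 0 := by rw [hq]; decide
  have hRO : refl q n hq0 * M ∈ O8 := mul_mem (refl_mem_O _) h.mem
  have hRN : ∀ v, N (refl q n hq0 * M) v = N M v + B n v • n := fun v => by
    have e1 : B n (M v) = B n v := by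
      have := O8_B h.mem n v
      rwa [h.fix] at this
    show refl q n hq0 (M v) + v = _
    rw [refl_eq, e1]
    unfold N
    abel
  have hNn : ∀ v, B n (N M v) = 0 := fun v => by rw [h.symm, h.Nn, B_zero_left]
  have hTSI : TSI (refl q n hq0 * M) := fun v => by
    have e1 : B (N M v) (B n v • n) = 0 := by rw [B_smul_right, B_comm _ n, hNn, mul_zero]
    rw [hRN, q_add, e1, q_smul, hq, h.vec, add_zero, mul_one]
    exact zz _
  apply Cfsg.Agent.StdO8.Gen.refl_notMem n hq0
  have h1 := mul_mem (hTSI.mem_Om hRO) (inv_mem hM)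
  rwa [mul_inv_cancel_right] at h1

/-- **Case (b)**: the other involutions. -/
theorem nts_cases {M : V ≃ₗ[ZMod 2] V} {n : V} (h : Inv M n) (hq : q n = 0) (h0 : n ≠ 0) :
    IsC2 M ∨ ∃ g ∈ O8, g * M * g⁻¹ = X (bv 0) (bv 5) * X (bv 2) (bv 3 + bv 7) := by
  obtain ⟨v0, hv0⟩ := exists_one h0
  have hnn : B n (N M v0) = 0 := by rw [h.symm, h.Nn, B_zero_left]
  have hN := N_X h.mem hq hnn h.fix (N_eq_zero.1 (h.NN v0))
  have hqa : q (N M v0) = 1 := by rw [h.vec, hv0]
  obtain ⟨a, ha⟩ : ∃ a, a = N M v0 := ⟨_, rfl⟩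
  rw [← ha] at hN hqa hnn
  have hMa : M a = a := by rw [ha]; exact N_eq_zero.1 (h.NN v0)
  obtain ⟨R, hR⟩ : ∃ R, R = X n a * M := ⟨_, rfl⟩
  rw [← hR] at hN
  have hRO : R ∈ O8 := by rw [hR]; exact mul_mem (X_mem_O8 _ _) h.mem
  have hMR : M = X n a * R := by rw [hR, ← mul_assoc, X_mul_self, one_mul]
  have hTR : TSI R := by
    intro v
    rw [hN, hqa, one_mul]
    have hvn : B (N M v) n = 0 := by rw [← h.symm, h.Nn, B_zero_right]
    have hva : B (N M v) a = 0 := by rw [ha]; exact h.isot v v0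
    have hnn' : B a n = 0 := by rw [B_comm]; exact hnn
    have hvv : q (N M v) = B n v := h.vec v
    exact q_comb hvv hqa hq hva hvn hnn' _
  have hsR := symm_of hRO hTR.isot
  have hRn : N R n = 0 := by
    rw [hN, h.Nn, B_self, B_comm a n, hnn, mul_zero, zero_smul, zero_smul, add_zero, add_zero, add_zero]
  have hRa : N R a = 0 := by
    rw [hN, N_eq_zero.2 hMa, hnn, B_self, mul_zero, zero_smul, zero_smul, add_zero, add_zero, add_zero]
  have hKn : ∀ v ∈ Im R, B v n = 0 := by
    rintro _ ⟨v, rfl⟩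
    rw [← hsR, hRn, B_zero_right]
  have hKa : ∀ v ∈ Im R, B v a = 0 := by
    rintro _ ⟨v, rfl⟩
    rw [← hsR, hRa, B_zero_right]
  have haR : a ∉ Im R := by
    intro h2
    have h3 := ts_Im hTR a h2
    rw [hqa] at h3
    exact absurd h3 (by decide)
  have hk := fr_le (ts_Im hTR) haR hKa
  by_cases hR1 : R = 1
  · left
    exact ⟨n, a, hq, h0, hnn, hqa, by rw [hMR, hR1, mul_one]⟩
  obtain ⟨u, w, hu, hw, huw, hu0, hw0, hne, e⟩ := isRoot_of_sub (ts_Im hTR) hk hRO hR1 (fun v => ⟨v, rfl⟩)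
  have hv := vec_X hu hw huw hu0 hw0 hne
  rw [← e] at hv
  have hun := hKn _ hv.1
  have hwn := hKn _ hv.2
  have hua := hKa _ hv.1
  have hwa := hKa _ hv.2
  have hnu : B n u = 0 := by rw [B_comm]; exact hun
  have hnw : B n w = 0 := by rw [B_comm]; exact hwn
  have hau : B a u = 0 := by rw [B_comm]; exact hua
  have haw : B a w = 0 := by rw [B_comm]; exact hwa
  -- `n` on the line
  have hcase : ∀ u' : V, q u' = 0 → B n u' = 0 → B a u' = 0 → R = X n u' → IsC2 M := by
    intro u' h2 h3 h4 h5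
    refine ⟨n, a + u', hq, h0, ?_, ?_, ?_⟩
    · rw [B_add_right, hnn, h3, add_zero]
    · rw [q_add, hqa, h2, h4, add_zero, add_zero]
    · rw [hMR, h5, X_mul hq hnn h3]
  by_cases hn1 : n = u
  · left
    exact hcase w hw hnw haw (by rw [e, hn1])
  by_cases hn2 : n = w
  · left
    exact hcase u hu hnu hau (by rw [e, hn2, X_comm hu hw])
  by_cases hn3 : n = u + w
  · left
    refine hcase u hu hnu hau ?_
    have h2 : q (u + w) = 0 := by rw [← hn3]; exact hq
    rw [e, hn3, X_comm h2 hu, X_add_left hu]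
  right
  have hli : LinearIndependent (ZMod 2) ![a, n, u, w] := by
    rw [Fintype.linearIndependent_iff]
    intro c hc
    have hc' : c 0 • a + c 1 • n + c 2 • u + c 3 • w = 0 := by
      have := hc
      rw [Fin.sum_univ_four] at this
      exact this
    have e0 : c 0 = 0 := by
      rcases z2 (c 0) with h2 | h2
      · exact h2
      · exfalso
        have e3 := congrArg q hc'
        rw [q_add, q_add, q_add, q_zero, q_smul, q_smul, q_smul, q_smul] at e3
        simp only [B_smul_left, B_smul_right, B_add_left, hqa, hu, hw, hq, huw, hnu, hnw, hau, haw, B_comm a n, hnn, h2,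
          mul_zero, add_zero, mul_one] at e3
        exact absurd e3 (by decide)
    rw [e0, zero_smul, zero_add] at hc'
    have h12 : c 1 = 0 ∧ c 2 = 0 ∧ c 3 = 0 := by
      rcases z2 (c 1) with h2 | h2 <;> rcases z2 (c 2) with h3 | h3 <;> rcases z2 (c 3) with h4 | h4 <;>
        rw [h2, h3, h4] at hc' <;> simp only [zero_smul, one_smul, zero_add, add_zero] at hc'
      · exact ⟨h2, h3, h4⟩
      · exact absurd hc' hw0
      · exact absurd hc' hu0
      · exact absurd (eq_of_add_eq_zero hc') hne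
      · exact absurd hc' h0
      · exact absurd (eq_of_add_eq_zero hc') hn2
      · exact absurd (eq_of_add_eq_zero hc') hn1
      · rw [add_assoc] at hc'
        exact absurd (eq_of_add_eq_zero hc') hn3
    intro i
    fin_cases i
    · exact e0
    · exact h12.1
    · exact h12.2.1
    · exact h12.2.2
  have k37 : q (bv 3 + bv 7) = 1 := (z2 _).resolve_left q37
  have k3 : ∀ i : Fin 8, i = 0 ∨ i = 2 ∨ i = 5 → B (bv 3 + bv 7) (bv i) = 0 := by
    rintro i (rfl | rfl | rfl) <;> (rw [B_add_left, B_bv, B_bv]; decide)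
  have hbli : LinearIndependent (ZMod 2) ![bv 3 + bv 7, bv 2, bv 0, bv 5] := by
    rw [Fintype.linearIndependent_iff]
    intro x hx
    have hx' : x 0 • (bv 3 + bv 7) + x 1 • bv 2 + x 2 • bv 0 + x 3 • bv 5 = 0 := by
      have := hx
      rw [Fin.sum_univ_four] at this
      exact this
    have key : ∀ j : Fin 8, x 0 * (B (bv 3) (bv j) + B (bv 7) (bv j)) + x 1 * B (bv 2) (bv j) + x 2 * B (bv 0) (bv j) +
        x 3 * B (bv 5) (bv j) = 0 := by
      intro j
      have := congrArg (fun z => B z (bv j)) hx'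
      simp only [B_add_left, B_smul_left, B_zero_left] at this
      exact this
    have k0 := key 3
    have k1 := key 6
    have k2 := key 4
    have k4 := key 1
    simp only [B_bv] at k0 k1 k2 k4
    intro i
    fin_cases i
    · simpa using k0
    · simpa using k1
    · simpa using k2
    · simpa using k4
  obtain ⟨g, hg, hgv⟩ := exists_isometry (x := ![a, n, u, w]) (y := ![bv 3 + bv 7, bv 2, bv 0, bv 5]) hli hbli
    (fun i => by
      fin_cases i
      · show q a = q (bv 3 + bv 7)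
        rw [hqa, k37]
      · show q n = q (bv 2)
        rw [hq, q_bv]
      · show q u = q (bv 0)
        rw [hu, q_bv]
      · show q w = q (bv 5)
        rw [hw, q_bv])
    (fun i j => by
      have hl : ∀ i j : Fin 4, B (![a, n, u, w] i) (![a, n, u, w] j) = 0 := by
        intro i j
        fin_cases i <;> fin_cases j
        · exact B_self a
        · show B a n = 0
          rw [B_comm]; exact hnn
        · exact hau
        · exact haw
        · exact hnn
        · exact B_self n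
        · exact hnu
        · exact hnw
        · exact hua
        · exact hun
        · exact B_self u
        · exact huw
        · exact hwa
        · exact hwn
        · show B w u = 0
          rw [B_comm]; exact huw
        · exact B_self w
      have hr : ∀ i j : Fin 4, B (![bv 3 + bv 7, bv 2, bv 0, bv 5] i) (![bv 3 + bv 7, bv 2, bv 0, bv 5] j) = 0 := by
        have k3' : ∀ i : Fin 8, i = 0 ∨ i = 2 ∨ i = 5 → B (bv i) (bv 3 + bv 7) = 0 := fun i hi => by
          rw [B_comm]; exact k3 i hi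
        have kk : ∀ i j : Fin 8, (i = 0 ∨ i = 2 ∨ i = 5) → (j = 0 ∨ j = 2 ∨ j = 5) → B (bv i) (bv j) = 0 := by
          intro i j hi hj
          rw [B_bv]
          revert i j
          decide
        intro i j
        fin_cases i <;> fin_cases j
        · exact B_self _
        · exact k3 2 (by decide)
        · exact k3 0 (by decide)
        · exact k3 5 (by decide)
        · exact k3' 2 (by decide)
        · exact kk 2 2 (by decide) (by decide)
        · exact kk 2 0 (by decide) (by decide)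
        · exact kk 2 5 (by decide) (by decide)
        · exact k3' 0 (by decide)
        · exact kk 0 2 (by decide) (by decide)
        · exact kk 0 0 (by decide) (by decide)
        · exact kk 0 5 (by decide) (by decide)
        · exact k3' 5 (by decide)
        · exact kk 5 2 (by decide) (by decide)
        · exact kk 5 0 (by decide) (by decide)
        · exact kk 5 5 (by decide) (by decide)
      rw [hl, hr])
  have g0 : g a = bv 3 + bv 7 := hgv 0
  have g1 : g n = bv 2 := hgv 1
  have g2 : g u = bv 0 := hgv 2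
  have g3 : g w = bv 5 := hgv 3
  refine ⟨g, hg, ?_⟩
  -- the two factors commute
  have hc : X n a * X u w = X u w * X n a := by
    have e4 := X_conj (X_mem_O8 u w) n a
    have e5 : X u w n = n := by
      rw [X_apply hu hw huw, hun, hwn, zero_smul, zero_smul, add_zero, add_zero]
    have e6 : X u w a = a := by
      rw [X_apply hu hw huw, hua, hwa, zero_smul, zero_smul, add_zero, add_zero]
    rw [e5, e6, mul_inv_eq_iff_eq_mul] at e4
    exact e4.symm
  calc g * M * g⁻¹ = (g * X u w * g⁻¹) * (g * X n a * g⁻¹) := by rw [hMR, e, hc]; group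
    _ = _ := by rw [X_conj hg, X_conj hg, g0, g1, g2, g3]

/-- the involution `w0` -/
theorem coe_w0 : ((w0 : Om) : V ≃ₗ[ZMod 2] V) = X (bv 0) (bv 5) * X (bv 2) (bv 3 + bv 7) := by
  have e1 : ((xm ![1, -1, 0, 0] : Om) : V ≃ₗ[ZMod 2] V) = X (bv 0) (bv 5) := by
    have h1 : (![1, -1, 0, 0] : Cfsg.Agent.StdO8.D4Root.E) = wt 0 + wt 5 := by decide
    rw [h1]
    exact xO_wt (i := 0) (j := 5) (by decide)
  have e2 : ((xm ![0, 0, 1, -1] : Om) : V ≃ₗ[ZMod 2] V) = X (bv 2) (bv 7) := by
    have h1 : (![0, 0, 1, -1] : Cfsg.Agent.StdO8.D4Root.E) = wt 2 + wt 7 := by decide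
    rw [h1]
    exact xO_wt (i := 2) (j := 7) (by decide)
  have e3 : ((xm ![0, 0, 1, 1] : Om) : V ≃ₗ[ZMod 2] V) = X (bv 2) (bv 3) := by
    have h1 : (![0, 0, 1, 1] : Cfsg.Agent.StdO8.D4Root.E) = wt 2 + wt 3 := by decide
    rw [h1]
    exact xO_wt (i := 2) (j := 3) (by decide)
  have h27 : B (bv 2) (bv 7) = 0 := by rw [B_bv]; decide
  have h23 : B (bv 2) (bv 3) = 0 := by rw [B_bv]; decide
  calc ((w0 : Om) : V ≃ₗ[ZMod 2] V) = X (bv 0) (bv 5) * X (bv 2) (bv 7) * X (bv 2) (bv 3) := by
        rw [← e1, ← e2, ← e3]; rfl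
    _ = _ := by rw [mul_assoc, X_mul (q_bv 2) h27 h23, add_comm (bv 7)]

/-- the two totally singular root elements and triality -/
theorem tri_cc {w : Om} (hw : (w : V ≃ₗ[ZMod 2] V) = X (bv 0) (bv 1) * X (bv 2) (bv 3)) :
    IsC2 ((tri w : Om) : V ≃ₗ[ZMod 2] V) := by
  have e1 : ((xm ![1, 1, 0, 0] : Om) : V ≃ₗ[ZMod 2] V) = X (bv 0) (bv 1) := by
    have h1 : (![1, 1, 0, 0] : Cfsg.Agent.StdO8.D4Root.E) = wt 0 + wt 1 := by decide
    rw [h1]
    exact xO_wt (i := 0) (j := 1) (by decide)
  have e2 : ((xm ![0, 0, 1, 1] : Om) : V ≃ₗ[ZMod 2] V) = X (bv 2) (bv 3) := by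
    have h1 : (![0, 0, 1, 1] : Cfsg.Agent.StdO8.D4Root.E) = wt 2 + wt 3 := by decide
    rw [h1]
    exact xO_wt (i := 2) (j := 3) (by decide)
  have e3 : ((xm ![1, -1, 0, 0] : Om) : V ≃ₗ[ZMod 2] V) = X (bv 0) (bv 5) := by
    have h1 : (![1, -1, 0, 0] : Cfsg.Agent.StdO8.D4Root.E) = wt 0 + wt 5 := by decide
    rw [h1]
    exact xO_wt (i := 0) (j := 5) (by decide)
  have h1 : w = xm ![1, 1, 0, 0] * xm ![0, 0, 1, 1] := by
    apply Subtype.ext
    rw [hw, ← e1, ← e2]
    rfl
  have r1 : rho ![1, 1, 0, 0] = ![1, 1, 0, 0] := by decide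
  have r2 : rho ![0, 0, 1, 1] = ![1, -1, 0, 0] := by decide
  have h2 : tri w = xm ![1, 1, 0, 0] * xm ![1, -1, 0, 0] := by
    rw [h1, map_mul, tri_xm (by decide +kernel), tri_xm (by decide +kernel), r1, r2]
  have h01 : B (bv 0) (bv 1) = 0 := by rw [B_bv]; decide
  have h05 : B (bv 0) (bv 5) = 0 := by rw [B_bv]; decide
  refine ⟨bv 0, bv 1 + bv 5, q_bv 0, bv_ne 0, ?_, ?_, ?_⟩
  · rw [B_add_right, h01, h05, add_zero]
  · rw [q_add, q_bv, q_bv, B_bv]; decide
  · rw [h2]
    calc ((xm ![1, 1, 0, 0] * xm ![1, -1, 0, 0] : Om) : V ≃ₗ[ZMod 2] V) = X (bv 0) (bv 1) * X (bv 0) (bv 5) := by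
          rw [← e1, ← e3]; rfl
      _ = _ := X_mul (q_bv 0) h01 h05

/-- **The involutions of `Ω₈⁺(2)`.** -/
theorem main (w : Om) (hww : w * w = 1) (hw1 : w ≠ 1) : ∃ α : MulAut Om,
    IsRoot ((α w : Om) : V ≃ₗ[ZMod 2] V) ∨ IsC2 ((α w : Om) : V ≃ₗ[ZMod 2] V) ∨ α w = w0 := by
  have h2 : (w : V ≃ₗ[ZMod 2] V) * w = 1 := congrArg Subtype.val hww
  have h1 : (w : V ≃ₗ[ZMod 2] V) ≠ 1 := fun h => hw1 (Subtype.ext h)
  have hM : (w : V ≃ₗ[ZMod 2] V) ∈ O8 := Om_le w.2
  obtain ⟨n, h⟩ := exists_inv hM h2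
  have hq := qn_zero h w.2
  by_cases h0 : n = 0
  · have hT : TSI (w : V ≃ₗ[ZMod 2] V) := fun v => by rw [h.vec, h0, B_zero_left]
    rcases tsi_cases hM hT h1 with h3 | ⟨g, hg, h3⟩
    · exact ⟨1, Or.inl h3⟩
    · refine ⟨tri * cj ⟨g, hg⟩, Or.inr (Or.inl ?_)⟩
      exact tri_cc (w := cj ⟨g, hg⟩ w) (by rw [cj_coe]; exact h3)
  · rcases nts_cases h hq h0 with h3 | ⟨g, hg, h3⟩
    · exact ⟨1, Or.inr (Or.inl h3)⟩
    · refine ⟨cj ⟨g, hg⟩, Or.inr (Or.inr (Subtype.ext ?_))⟩
      rw [cj_coe, coe_w0]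
      exact h3

end Cfsg.Agent.OddHalf.NI3.Ex4.OEClass
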