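import Cfsg.Agent.OddHalf.NI3.Ex4.Tri
import Cfsg.Agent.OddHalf.NI3.Ex4.Large
import Cfsg.Agent.StdO8.Triality

/-!
# (EX4), the row `Ω₈⁺(2)`: interface

`Dead w` : there is no configuration `Cfg4 w β A`. The row: every involution of `Ω₈⁺(2)` is `Dead`. `Dead.map`, `dead_of_ok`
(triples), `Cfg4.central` (`A ≤ Z(O₂(C(w)))` if `C(w)` is 2-constrained), `w0` the involution of type `c₄`.
-/

set_option autoImplicit false
set_option linter.style.haveILetI false

namespace Cfsg.Agent.OddHalf.NI3.Ex4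

open Subgroup Cfsg Cfsg.Agent.OddHalf.NI3.ExTri Cfsg.Agent.OddHalf.NI3.ExFour

universe u v

/-- no configuration with the involution `w` -/
def Dead {X : Type*} [Group X] (w : X) : Prop := ∀ (β : MulAut X) (A : Subgroup X), ¬ Cfg4 w β A

section

variable {X : Type u} [Group X] {w : X} {β : MulAut X} {A : Subgroup X}

theorem row4_of_dead (h : ∀ w : X, w * w = 1 → w ≠ 1 → Dead w) : Row4 X := by
  intro w β A C N _ _ f _ _ _ _ a b l _ _ _ _ _ _ _
  exact h w C.ww C.w1 β A C

/-- **triples**: `w` is dead if for every `β` of order 3 fixing `w` there is no triple or there are two orbits -/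
theorem dead_of_ok [Finite X] (hZ : center X = ⊥)
    (h : ∀ β : MulAut X, β * β * β = 1 → β ≠ 1 → β w = w → Ok (MulAut.conj w) β) : Dead w := by
  intro β A C
  have hw1 : MulAut.conj w ≠ 1 := by
    intro h1
    have h2 : w ∈ center X := by
      rw [mem_center_iff]
      intro g
      have h3 := DFunLike.congr_fun h1 g
      rw [MulAut.conj_apply, MulAut.one_apply, mul_inv_eq_iff_eq_mul] at h3
      exact h3.symm
    rw [hZ, mem_bot] at h2
    exact C.w1 h2
  have hbad : Bad (MulAut.conj w) β A := by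
    refine bad_of ?_ hw1 C.b3 ?_ ?_ C.A2 C.A4 C.bA C.bne ?_
    · rw [← map_mul, C.ww, map_one]
    · ext x
      simp only [MulAut.mul_apply, MulAut.conj_apply, map_mul, map_inv, C.bw]
    · intro x hx
      rw [MulAut.conj_apply, mul_inv_eq_iff_eq_mul, C.Aw x hx]
    · rw [fix_conj]; exact C.sn
  exact not_bad_of_ok hZ (h β C.b3 hbad.beta_ne C.bw) hbad

/-- the elements of a four-group on which `β` acts nontrivially -/
theorem Cfg4.cases (C : Cfg4 w β A) {a : X} (ha : a ∈ A) (ha1 : a ≠ 1) :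
    ∀ c ∈ A, c = 1 ∨ c = a ∨ c = β a ∨ c = β (β a) := by
  have h1 : β a ≠ 1 := fun h => ha1 (β.injective (by rw [h, map_one]))
  have h2 : a ≠ β a := fun h => ha1 (C.bne a ha h.symm)
  have h3 : a * β a ≠ 1 := by
    intro h
    apply h2
    have h4 := C.A2 a ha
    have h5 : a * a = a * β a := by rw [h4, h]
    exact mul_left_cancel h5
  intro c hc
  rcases four_cases C.A4 ha (C.bA a ha) ha1 h1 h2 h3 c hc with h | h | h | h
  · exact Or.inl h
  · exact Or.inr (Or.inl h)
  · exact Or.inr (Or.inr (Or.inl h))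
  · refine Or.inr (Or.inr (Or.inr ?_))
    have h4 := C.prod ha
    have h5 := C.A2 _ (C.bA _ (C.bA _ ha))
    rw [h]
    calc a * β a = a * β a * (β (β a) * β (β a)) := by rw [h5, mul_one]
      _ = (a * β a * β (β a)) * β (β a) := by group
      _ = β (β a) := by rw [h4, one_mul]

/-- **`A` is central in `O₂(C(w))`**, if `C(w)` is 2-constrained -/
theorem Cfg4.central [Finite X] (C : Cfg4 w β A) (hZ : center X = ⊥)
    (con : ∀ h, h * w = w * h → (∀ q ∈ OO2 w, h * q = q * h) → h ∈ OO2 w) :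
    A ≤ OO2 w ∧ ∀ a ∈ A, ∀ x ∈ OO2 w, a * x = x * a := by
  have hle : A ≤ OO2 w := C.le_OO2 hZ con C.bw rfl C.Aw
  have h2 := C.two hZ (B := OO2 w) (OO2_isPGroup w) (fun b hb => OO2_comm hb)
    (fun a ha b hb => OO2_conj hb (C.Aw a ha)) (fun b hb => beta_OO2 C.bw hb)
  refine ⟨hle, ?_⟩
  -- `A` is normal in `O₂(C(w))`
  have hgen : ∀ a ∈ A, ∃ y ∈ A, a = β y * y⁻¹ := by
    intro a ha
    refine ⟨β a, C.bA a ha, ?_⟩
    have h3 := C.prod ha
    have h4 := C.comm ha (C.bA _ ha)
    have h5 := C.A2 _ (C.bA _ (C.bA _ ha))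
    have h6 := C.A2 _ (C.bA _ ha)
    have h7 : (β a)⁻¹ = β a := inv_eq_of_mul_eq_one_right h6
    have h8 := C.comm (C.bA _ (C.bA _ ha)) (C.bA _ ha)
    rw [h7]
    calc a = a * (β a * β a) := by rw [h6, mul_one]
      _ = a * β a * (β (β a) * β (β a)) * β a := by rw [h5]; group
      _ = (a * β a * β (β a)) * (β (β a) * β a) := by group
      _ = β (β a) * β a := by rw [h3, one_mul]
  have hnorm : ∀ x ∈ OO2 w, ∀ a ∈ A, x * a * x⁻¹ ∈ A := by
    intro x hx a ha
    obtain ⟨y, hy, rfl⟩ := hgen a ha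
    have h3 := h2 x hx
    have h4 := h2 (x * y) (mul_mem hx (hle hy))
    have h5 : x * (β y * y⁻¹) * x⁻¹ = (β x * x⁻¹)⁻¹ * (β (x * y) * (x * y)⁻¹) := by
      rw [map_mul]; group
    rw [h5]
    exact A.mul_mem (A.inv_mem h3) h4
  intro a ha x hx
  by_cases ha1 : a = 1
  · rw [ha1, one_mul, mul_one]
  -- conjugation with `x` commutes with `β` on `A`
  have hcomm : ∀ a ∈ A, β (x * a * x⁻¹) = x * β a * x⁻¹ := by
    intro a ha
    have h3 := h2 x hx
    have h4 := C.comm h3 (hnorm x hx _ (C.bA a ha))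
    calc β (x * a * x⁻¹) = (β x * x⁻¹) * (x * β a * x⁻¹) * (β x * x⁻¹)⁻¹ := by
          rw [map_mul, map_mul, map_inv]; group
      _ = x * β a * x⁻¹ := by rw [h4, mul_inv_cancel_right]
  have hpow : ∀ c ∈ A, x * a * x⁻¹ = c → (c = β a ∨ c = β (β a)) → False := by
    intro c hc h3 h4
    -- conjugation with `x` acts on the orbit of `a` as `γ = β` or `β²`
    obtain ⟨n, hn⟩ := OO2_isPGroup w ⟨x, hx⟩
    have hn' : x ^ 2 ^ n = 1 := congrArg Subtype.val hn
    obtain ⟨γ, hγ3, hγA, hγa, hγc, hγne⟩ : ∃ γ : MulAut X, γ * γ * γ = 1 ∧ (∀ a ∈ A, γ a ∈ A) ∧ x * a * x⁻¹ = γ a ∧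
        (∀ y ∈ A, γ (x * y * x⁻¹) = x * γ y * x⁻¹) ∧ ∀ y ∈ A, γ y = y → y = 1 := by
      rcases h4 with h4 | h4
      · exact ⟨β, C.b3, C.bA, by rw [h3, h4], hcomm, C.bne⟩
      · refine ⟨β * β, ?_, fun a ha => C.bA _ (C.bA _ ha), by rw [h3, h4]; rfl, ?_, ?_⟩
        · calc β * β * (β * β) * (β * β) = (β * β * β) * (β * β * β) := by group
            _ = 1 := by rw [C.b3, one_mul]
        · intro y hy
          change β (β (x * y * x⁻¹)) = x * β (β y) * x⁻¹
          rw [hcomm y hy, hcomm _ (C.bA y hy)]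
        · intro y hy h5
          have h6 : β (β y) = y := h5
          have h7 : β y = y := by
            have h8 := C.beta3 y
            rw [h6] at h8
            exact h8
          exact C.bne y hy h7
    have hk : ∀ k : ℕ, x ^ k * a * (x ^ k)⁻¹ = (γ ^ k) a ∧ (γ ^ k) a ∈ A := by
      intro k
      induction k with
      | zero => simp [ha]
      | succ k ih =>
        have h5 : (γ ^ (k + 1)) a = γ ((γ ^ k) a) := by rw [pow_succ', MulAut.mul_apply]
        have h6 : ∀ k : ℕ, ∀ y ∈ A, (γ ^ k) (x * y * x⁻¹) = x * (γ ^ k) y * x⁻¹ ∧ (γ ^ k) y ∈ A := by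
          intro k
          induction k with
          | zero => intro y hy; simp [hy]
          | succ k ih =>
            intro y hy
            have h7 : ∀ z, (γ ^ (k + 1)) z = γ ((γ ^ k) z) := fun z => by rw [pow_succ', MulAut.mul_apply]
            obtain ⟨h8, h9⟩ := ih y hy
            rw [h7, h7, h8]
            exact ⟨hγc _ h9, hγA _ h9⟩
        rw [h5]
        refine ⟨?_, hγA _ ih.2⟩
        calc x ^ (k + 1) * a * (x ^ (k + 1))⁻¹ = x * (x ^ k * a * (x ^ k)⁻¹) * x⁻¹ := by
              rw [pow_succ']; group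
          _ = x * (γ ^ k) a * x⁻¹ := by rw [ih.1]
          _ = (γ ^ k) (x * a * x⁻¹) := (h6 k a ha).1.symm
          _ = (γ ^ k) (γ a) := by rw [hγa]
          _ = γ ((γ ^ k) a) := by rw [← MulAut.mul_apply, ← pow_succ, pow_succ', MulAut.mul_apply]
    have h5 := (hk (2 ^ n)).1
    rw [hn', one_mul, inv_one, mul_one] at h5
    -- `γ ^ (2 ^ n)` is `γ` or `γ²`
    have h6 : ∀ n : ℕ, γ ^ 2 ^ n = γ ∨ γ ^ 2 ^ n = γ * γ := by
      intro n
      induction n with
      | zero => left; rw [pow_zero, pow_one]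
      | succ n ih =>
        rw [pow_succ, pow_mul, pow_two]
        rcases ih with h | h
        · right; rw [h]
        · left
          rw [h]
          calc γ * γ * (γ * γ) = (γ * γ * γ) * γ := by group
            _ = γ := by rw [hγ3, one_mul]
    rcases h6 n with h7 | h7
    · rw [h7] at h5
      exact ha1 (hγne a ha h5.symm)
    · rw [h7] at h5
      have h8 : γ (γ a) = a := h5.symm
      have h9 : γ (γ (γ a)) = a := by
        rw [← MulAut.mul_apply, ← MulAut.mul_apply, hγ3, MulAut.one_apply]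
      rw [h8] at h9
      exact ha1 (hγne a ha h9)
  have h3 := hnorm x hx a ha
  rcases C.cases ha ha1 _ h3 with h4 | h4 | h4 | h4
  · exfalso
    apply ha1
    calc a = x⁻¹ * (x * a * x⁻¹) * x := by group
      _ = 1 := by rw [h4]; group
  · exact (mul_inv_eq_iff_eq_mul.1 h4).symm
  · exact (hpow _ h3 rfl (Or.inl h4)).elim
  · exact (hpow _ h3 rfl (Or.inr h4)).elim

theorem Jb_map {Y : Type v} [Group Y] (e : X ≃* Y) (β : MulAut X) (A : Subgroup X) :
    (Jb β A).map (MulAut.congr e).toMonoidHom = Jb (MulAut.congr e β) (A.map (e : X →* Y)) := by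
  unfold Jb
  rw [Subgroup.map_sup, Subgroup.map_map, MonoidHom.map_zpowers, Subgroup.map_map]
  congr 2
  ext x y
  change e (x * e.symm y * x⁻¹) = e x * y * (e x)⁻¹
  rw [map_mul, map_mul, map_inv, e.apply_symm_apply]

theorem cent_map {Y : Type v} [Group Y] (e : X ≃* Y) (w : X) :
    (centralizer ({w} : Set X)).map (e : X →* Y) = centralizer ({e w} : Set Y) := by
  ext y
  rw [mem_centralizer_singleton_iff]
  constructor
  · rintro ⟨x, hx, rfl⟩
    have h1 := mem_centralizer_singleton_iff.1 hx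
    change e x * e w = e w * e x
    rw [← map_mul, h1, map_mul]
  · intro h
    refine ⟨e.symm y, mem_centralizer_singleton_iff.2 (e.injective ?_), e.apply_symm_apply y⟩
    rw [map_mul, map_mul, e.apply_symm_apply]
    exact h

/-- transport -/
theorem Cfg4.map {Y : Type v} [Group Y] (e : X ≃* Y) (C : Cfg4 w β A) :
    Cfg4 (e w) (MulAut.congr e β) (A.map (e : X →* Y)) := by
  have hc : ∀ (γ : MulAut X) (x : X), MulAut.congr e γ (e x) = e (γ x) := by
    intro γ x
    change e (γ (e.symm (e x))) = e (γ x)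
    rw [e.symm_apply_apply]
  refine ⟨by rw [← map_mul, C.ww, map_one], fun h => C.w1 (e.injective (by rw [h, map_one])),
    by rw [← map_mul, ← map_mul, C.b3, map_one], by rw [hc, C.bw], ?_, ?_, ?_, ?_, ?_, ?_, ?_⟩
  · rintro _ ⟨a, ha, rfl⟩
    change e a * e w = e w * e a
    rw [← map_mul, C.Aw a ha, map_mul]
  · rintro _ ⟨a, ha, rfl⟩
    change e a * e a = 1
    rw [← map_mul, C.A2 a ha, map_one]
  · rw [card_map_of_injective (f := (e : X →* Y)) e.injective]
    exact C.A4
  · rintro _ ⟨a, ha, rfl⟩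
    exact ⟨β a, C.bA a ha, (hc β a).symm⟩
  · rintro _ ⟨a, ha, rfl⟩ h
    change MulAut.congr e β (e a) = e a at h
    rw [hc] at h
    change e a = 1
    rw [C.bne a ha (e.injective h), map_one]
  · rw [← cent_map, ← Jb_map, ← Jb_map]
    exact C.sn.map _
  · rw [← cent_map, ← Jb_map]
    have h1 := Lib.Cores.map_equiv_pPrimeCore
      ((Jb β (centralizer ({w} : Set X))).equivMapOfInjective (MulAut.congr e).toMonoidHom (MulAut.congr e).injective) 2
    rw [C.core, Subgroup.map_bot] at h1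
    exact h1.symm

theorem Dead.map {Y : Type v} [Group Y] (e : X ≃* Y) (h : Dead w) : Dead (e w) := by
  intro β A C
  have h1 := C.map e.symm
  rw [e.symm_apply_apply] at h1
  exact h _ _ h1

end

/-! ### The involution of type `c₄` of `Ω₈⁺(2)` -/

open Cfsg.Agent.StdO8.DataOf (xm)
open Cfsg.Agent.StdO8.Model (Om)

/-- the product of three mutually orthogonal root elements which are permuted by `Tri.tri` (`= X e₀ f₁ * X e₂ f₃ * X e₂ e₃`) -/
noncomputable def w0 : Om := xm ![1, -1, 0, 0] * xm ![0, 0, 1, -1] * xm ![0, 0, 1, 1]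

end Cfsg.Agent.OddHalf.NI3.Ex4
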