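import Cfsg.Agent.OddHalf.NI3.Ex4.OEight.Base
import Cfsg.Agent.StdO8.Code

/-!
# (EX4), the row `Ω₈⁺(2)`, the involution `w₀` of type `c₄`: words (helper831)

`okE` : for the eight elements `β ≠ 1` of `⟨tri, conj c₀⟩` there are two triples of `(w₀, β)` in different orbits of `β`.
-/

set_option autoImplicit false
set_option linter.style.haveILetI false

namespace Cfsg.Agent.OddHalf.NI3.Ex4.O8.CFour

open Subgroup Cfsg Cfsg.Agent.OddHalf.NI3.ExTri Cfsg.Agent.OddHalf.NI3.Ex4
open Cfsg.Agent.StdO8.Model (V q B O8 Om)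
open Cfsg.Agent.StdO8.D4Root (E roots Φ)
open Cfsg.Agent.StdO8.Bas (bv hd xO xb)
open Cfsg.Agent.StdO8.DataOf (xm)
open Cfsg.Agent.StdO8.Tri (tri tri_xm rho rho_mem)
open Cfsg.Agent.StdO8.Code

section TwoT

variable {X : Type*} [Group X] {α β γ : MulAut X}

/-- two triples in different orbits -/
def TwoT (α β : MulAut X) : Prop := ∃ b c, Tri α β b ∧ Tri α β c ∧ c ≠ b ∧ c ≠ β b ∧ c ≠ β (β b)

theorem TwoT.ok (h : TwoT α β) : Ok α β := Or.inr h

theorem TwoT.ne_one (h : TwoT α β) : β ≠ 1 := by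
  rintro rfl
  obtain ⟨b, -, hb, -⟩ := h
  have h1 := hb.tri
  rw [MulAut.one_apply, MulAut.one_apply, hb.sq, one_mul] at h1
  exact hb.ne h1

theorem TwoT.sq (h : TwoT α β) (b3 : β * β * β = 1) : TwoT α (β * β) := by
  have h3 : ∀ x, β (β (β x)) = x := fun x => by
    rw [← MulAut.mul_apply, ← MulAut.mul_apply, b3, MulAut.one_apply]
  have ht : ∀ b, Tri α β b → Tri α (β * β) b := by
    intro b hb
    refine ⟨hb.fix, hb.sq, hb.ne, ?_⟩
    rw [MulAut.mul_apply, MulAut.mul_apply, h3]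
    -- `b β²b βb = 1`
    have h1 : β b * β b = 1 := by rw [← map_mul, hb.sq, map_one]
    have h2 : β (β b) * β (β b) = 1 := by rw [← map_mul, h1, map_one]
    have h4 : b⁻¹ = b := inv_eq_of_mul_eq_one_right hb.sq
    have h5 : (β b)⁻¹ = β b := inv_eq_of_mul_eq_one_right h1
    have h6 : (β (β b))⁻¹ = β (β b) := inv_eq_of_mul_eq_one_right h2
    have h7 : b = β (β b) * β b := by
      have h8 := eq_inv_of_mul_eq_one_left hb.tri
      have h9 : b = β (β b) * (β b)⁻¹ := by
        rw [h6] at h8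
        rw [← h8, mul_assoc, mul_inv_cancel, mul_one]
      rw [h5] at h9
      exact h9
    rw [mul_assoc, ← h7, hb.sq]
  obtain ⟨b, c, hb, hc, n1, n2, n3⟩ := h
  refine ⟨b, c, ht b hb, ht c hc, n1, n3, ?_⟩
  rw [MulAut.mul_apply, MulAut.mul_apply, h3]
  exact n2

theorem TwoT.conj {w : X} (hγ : γ w = w) (h : TwoT (MulAut.conj w) β) : TwoT (MulAut.conj w) (γ * β * γ⁻¹) := by
  have hf : ∀ x, (γ * β * γ⁻¹) (γ x) = γ (β x) := fun x => by
    rw [MulAut.mul_apply, MulAut.mul_apply, MulAut.inv_apply_self]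
  have ht : ∀ b, Tri (MulAut.conj w) β b → Tri (MulAut.conj w) (γ * β * γ⁻¹) (γ b) := by
    intro b hb
    refine ⟨?_, by rw [← map_mul, hb.sq, map_one], fun h => hb.ne (γ.injective (by rw [h, map_one])), ?_⟩
    · have h1 := hb.fix
      rw [MulAut.conj_apply] at h1 ⊢
      have h2 : w * γ b * w⁻¹ = γ (w * b * w⁻¹) := by rw [map_mul, map_mul, map_inv, hγ]
      rw [h2, h1]
    · rw [hf, hf, ← map_mul, ← map_mul, hb.tri, map_one]
  obtain ⟨b, c, hb, hc, n1, n2, n3⟩ := h
  refine ⟨γ b, γ c, ht b hb, ht c hc, fun e => n1 (γ.injective e), fun e => n2 (γ.injective ?_),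
    fun e => n3 (γ.injective ?_)⟩
  · rw [e, hf]
  · rw [e, hf, hf]

end TwoT

/-! ### Words -/

/-- the code of a root element -/
def cd (s : E) : ℕ × ℕ := (2 ^ (hd s).1.1, 2 ^ (hd s).2.1)

theorem bv_dec : ∀ i : Fin 8, bv i = dec (2 ^ i.1) := by decide +kernel

theorem xm_eq (s : E) : xm s = gen (cd s) := by
  apply Subtype.ext
  show Cfsg.Agent.StdO8.Model.X (bv (hd s).1) (bv (hd s).2) = _
  rw [bv_dec, bv_dec]
  rfl

/-- the word of a list of roots -/
noncomputable def wd (l : List E) : Om := word (l.map cd)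

theorem wd_nil : wd [] = 1 := rfl

theorem wd_cons (s : E) (l : List E) : wd (s :: l) = xm s * wd l := by
  rw [xm_eq]; rfl

theorem wd_append (l l' : List E) : wd (l ++ l') = wd l * wd l' := by
  rw [wd, List.map_append, word_append]; rfl

theorem wd_reverse (l : List E) : wd l.reverse = (wd l)⁻¹ := by
  rw [wd, List.map_reverse, word_reverse]; rfl

theorem tri_wd {l : List E} (h : ∀ s ∈ l, s ∈ roots) : tri (wd l) = wd (l.map rho) := by
  induction l with
  | nil => rw [List.map_nil, wd_nil, map_one]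
  | cons s l ih =>
    rw [List.map_cons, wd_cons, wd_cons, map_mul, ih fun t ht => h t (List.mem_cons_of_mem _ ht),
      tri_xm (h s List.mem_cons_self)]

/-- the words of the lists `l`, `l'` are equal -/
def same' (l l' : List E) : Bool := same (l.map cd) (l'.map cd)

theorem wd_eq {l l' : List E} (h : same' l l' = true) : wd l = wd l' := word_eq h

/-- the words of the lists `l`, `l'` are different -/
def diff' (l l' : List E) : Bool :=
  (l.map cd).all ok && (l'.map cd).all ok && basis.any fun b =>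
    ev (l.map cd) b != ev (l'.map cd) b && (ev (l.map cd) b < 256 && ev (l'.map cd) b < 256)

theorem wd_ne {l l' : List E} (h : diff' l l' = true) : wd l ≠ wd l' := by
  intro e
  rw [diff', Bool.and_eq_true, Bool.and_eq_true, List.any_eq_true (l := basis)] at h
  obtain ⟨⟨h1, h2⟩, b, -, h3⟩ := h
  simp only [Bool.and_eq_true, bne_iff_ne, decide_eq_true_eq] at h3
  obtain ⟨h3, h4, h5⟩ := h3
  have h6 := word_dec h1 b
  have h7 := word_dec h2 b
  rw [show word (l.map cd) = word (l'.map cd) from e, h7] at h6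
  exact h3 (dec_inj h5 h4 h6).symm

/-! ### The automorphisms -/

/-- the word of `w₀` -/
def W : List E := [![1, -1, 0, 0], ![0, 0, 1, -1], ![0, 0, 1, 1]]

/-- the word of `c₀` -/
def C : List E := [![1, 1, 0, 0], ![-1, -1, 0, 0]]

theorem w0_eq : w0 = wd W := by
  rw [W, wd_cons, wd_cons, wd_cons, wd_nil, mul_one, ← mul_assoc]
  rfl

/-- the element `c₀` of order 3 -/
noncomputable def c0 : Om := wd C

theorem tri_w0 : tri w0 = w0 := by
  rw [w0_eq, tri_wd (by decide)]
  exact wd_eq (by decide +kernel)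

theorem c0_w0 : c0 * w0 * c0⁻¹ = w0 := by
  rw [w0_eq, c0, ← wd_reverse, ← wd_append, ← wd_append]
  exact wd_eq (by decide +kernel)

/-- an automorphism which acts on words -/
def Acts (β : MulAut Om) (f : List E → List E) : Prop := ∀ l : List E, (∀ s ∈ l, s ∈ roots) → β (wd l) = wd (f l)

theorem acts_tri : Acts tri (fun l => l.map rho) := fun _ h => tri_wd h

theorem acts_c0 : Acts (MulAut.conj c0) (fun l => C ++ l ++ C.reverse) := by
  intro l _
  rw [MulAut.conj_apply, c0, ← wd_reverse, ← wd_append, ← wd_append]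

/-- the check for one automorphism -/
def chk (f : List E → List E) (b c : List E) : Bool :=
  same' (W ++ b ++ W.reverse) b && same' (b ++ b) [] && diff' b [] && same' (b ++ f b ++ f (f b)) [] &&
    (same' (W ++ c ++ W.reverse) c && same' (c ++ c) [] && diff' c [] && same' (c ++ f c ++ f (f c)) []) &&
    (diff' c b && diff' c (f b) && diff' c (f (f b))) &&
    (decide (∀ s ∈ b, s ∈ roots) && decide (∀ s ∈ c, s ∈ roots) && decide (∀ s ∈ f b, s ∈ roots) &&
      decide (∀ s ∈ f c, s ∈ roots))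

theorem twoT_of {β : MulAut Om} {f : List E → List E} (hf : Acts β f) {b c : List E} (h : chk f b c = true) :
    TwoT (MulAut.conj w0) β := by
  simp only [chk, Bool.and_eq_true, decide_eq_true_eq] at h
  obtain ⟨⟨⟨⟨⟨⟨b1, b2⟩, b3⟩, b4⟩, ⟨⟨⟨c1, c2⟩, c3⟩, c4⟩⟩, ⟨⟨d1, d2⟩, d3⟩⟩, ⟨⟨⟨rb, rc⟩, rfb⟩, rfc⟩⟩ := h
  have ht : ∀ b : List E, (∀ s ∈ b, s ∈ roots) → (∀ s ∈ f b, s ∈ roots) → same' (W ++ b ++ W.reverse) b = true →
      same' (b ++ b) [] = true → diff' b [] = true → same' (b ++ f b ++ f (f b)) [] = true →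
      Tri (MulAut.conj w0) β (wd b) := by
    intro b rb rfb h1 h2 h3 h4
    refine ⟨?_, ?_, ?_, ?_⟩
    · rw [MulAut.conj_apply, w0_eq, ← wd_reverse, ← wd_append, ← wd_append]
      exact wd_eq h1
    · rw [← wd_append, wd_eq h2, wd_nil]
    · rw [← wd_nil]
      exact wd_ne h3
    · rw [hf b rb, hf _ rfb, ← wd_append, ← wd_append, wd_eq h4, wd_nil]
  refine ⟨wd b, wd c, ht b rb rfb b1 b2 b3 b4, ht c rc rfc c1 c2 c3 c4, wd_ne d1, ?_, ?_⟩
  · rw [hf b rb]
    exact wd_ne d2
  · rw [hf b rb, hf _ rfb]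
    exact wd_ne d3

/-- the conjugation with `c₀` -/
noncomputable def K : MulAut Om := MulAut.conj c0

theorem tri_K : tri * K = K * tri := by
  have h1 : tri c0 = c0 := by
    rw [c0, tri_wd (by decide)]
    exact wd_eq (by decide +kernel)
  ext x : 1
  rw [MulAut.mul_apply, MulAut.mul_apply, K, MulAut.conj_apply, MulAut.conj_apply, map_mul, map_mul, map_inv, h1]

theorem K_three : K * K * K = 1 := by
  have h1 : c0 * c0 * c0 = 1 := by
    rw [c0, ← wd_append, ← wd_append, ← wd_nil]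
    exact wd_eq (by decide +kernel)
  rw [K, ← map_mul, ← map_mul, h1, map_one]

theorem tri_three : tri * tri * tri = 1 := by
  have h : (((tri * tri * tri : MulAut Om) : Om ≃* Om) : Om →* Om) = MonoidHom.id Om := by
    apply Cfsg.Agent.StdO8.Tri.hom_ext
    intro s hs
    have h1 := rho_mem s hs
    have h2 := rho_mem _ h1.1
    show tri (tri (tri (xm s))) = xm s
    rw [tri_xm hs, tri_xm h1.1, tri_xm h2.1, h1.2.2.2.2]
    rw [h1.2.2.1]
  ext x : 1
  exact DFunLike.congr_fun h x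

theorem tK : TwoT (MulAut.conj w0) K :=
  twoT_of acts_c0 (b := [![1, 0, 1, 0]]) (c := [![1, -1, 0, 0], ![1, 0, 0, 1], ![1, 0, 0, -1]]) (by decide +kernel)

theorem tT : TwoT (MulAut.conj w0) tri :=
  twoT_of acts_tri (b := [![1, -1, 0, 0], ![0, 0, 1, 1]]) (c := [![1, 0, 0, 1], ![1, 0, 0, -1]]) (by decide +kernel)

theorem tTK : TwoT (MulAut.conj w0) (K * tri) := by
  refine twoT_of (f := fun l => C ++ l.map rho ++ C.reverse) ?_ (b := [![1, 0, 1, 0]])
    (c := [![1, -1, 0, 0], ![0, 0, 1, 1]]) (by decide +kernel)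
  intro l h
  rw [MulAut.mul_apply, tri_wd h, K, MulAut.conj_apply, c0, ← wd_reverse, ← wd_append, ← wd_append]

theorem tTKK : TwoT (MulAut.conj w0) (K * K * tri) := by
  refine twoT_of (f := fun l => C ++ (C ++ l.map rho ++ C.reverse) ++ C.reverse) ?_ (b := [![1, 0, 1, 0]])
    (c := [![1, -1, 0, 0], ![0, 0, 1, 1]]) (by decide +kernel)
  intro l h
  rw [MulAut.mul_apply, MulAut.mul_apply, tri_wd h, K, MulAut.conj_apply, MulAut.conj_apply, c0, ← wd_reverse,
    ← wd_append, ← wd_append, ← wd_append, ← wd_append]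

end Cfsg.Agent.OddHalf.NI3.Ex4.O8.CFour
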