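import Cfsg.Agent.OddHalf.NI3.Ex4.OEight.Base
import Cfsg.Agent.StdO8.EvenLin

/-!
# (EX4), the row `Ω₈⁺(2)`: the involutions `w` of `Ω₈⁺(2)` with `b(v, w v) ≠ 0` for some `v`

`exists_form`: `w` is of type `c₂` or `w = X n a * X s t` with `n, a, s, t` independent and mutually orthogonal,
`q = 0, 1, 0, 0`. `class_b`: `w` is of type `c₂` or conjugate under an isometry to `w0`.
-/

set_option autoImplicit false
set_option linter.style.haveILetI false

namespace Cfsg.Agent.OddHalf.NI3.Ex4.O8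

open Cfsg.Agent.StdO8 Cfsg.Agent.StdO8.Model Cfsg.Agent.StdO8.Bas Cfsg.Agent.StdO8.EvenLin Cfsg.Agent.StdO8.Aut
  Cfsg.Agent.StdO8.Root
open Cfsg.Agent.ClassicalGeometry.OrthAut1 (TS)
open Cfsg.Agent.LieClassical.OrthCore (refl refl_apply refl_mem_O refl_mul_self refl_inv refl_conj)

/-- the characteristic vector of an involution of `Om` is singular -/
theorem qn_zero {M : V ≃ₗ[ZMod 2] V} {n : V} (h : Inv M n) (hM : M ∈ Om) : q n = 0 := by
  refine (z2 _).resolve_right fun hq => ?_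
  have hq0 : q n ≠ 0 := by rw [hq]; decide
  have hRO : refl q n hq0 * M ∈ O8 := mul_mem (refl_mem_O _) h.mem
  have hRN : ∀ v, N (refl q n hq0 * M) v = N M v + B n v • n := fun v => by
    have e1 : B n (M v) = B n v := by
      have := O8_B h.mem n v
      rwa [h.fix] at this
    show refl q n hq0 (M v) + v = _
    rw [refl_eq, e1]
    unfold N
    abel
  have hNn : ∀ v, B n (N M v) = 0 := fun v => by rw [h.symm, h.Nn, B_zero_left]
  have hTSI : TSI (refl q n hq0 * M) := fun v => by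
    have e1 : B (N M v) (B n v • n) = 0 := by rw [B_smul_right, B_comm _ n, hNn, mul_zero]
    rw [hRN, q_add, e1, q_smul, hq, h.vec, add_zero, mul_one]
    exact zz _
  have h1 := hTSI.mem_Om hRO
  have h2 : refl q n hq0 ∈ Om := by
    have h3 := mul_mem h1 (inv_mem hM)
    rwa [mul_inv_cancel_right] at h3
  exact Gen.refl_notMem _ _ h2

/-- **the form of the involutions** `M` of `Om` with characteristic vector `n ≠ 0` -/
theorem exists_form {M : V ≃ₗ[ZMod 2] V} {n : V} (h : Inv M n) (hM : M ∈ Om) (hn : n ≠ 0) :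
    IsC2 M ∨ ∃ a s t, q n = 0 ∧ q a = 1 ∧ q s = 0 ∧ q t = 0 ∧ B n a = 0 ∧ B n s = 0 ∧ B n t = 0 ∧ B a s = 0 ∧
      B a t = 0 ∧ B s t = 0 ∧ s ≠ 0 ∧ t ≠ 0 ∧ s ≠ t ∧ n ≠ s ∧ n ≠ t ∧ n ≠ s + t ∧ M = X n a * X s t := by
  have hq := qn_zero h hM
  obtain ⟨v0, hv0⟩ := exists_one hn
  obtain ⟨a, ha⟩ : ∃ a, a = N M v0 := ⟨_, rfl⟩
  have hMa : M a = a := by rw [ha]; exact N_eq_zero.1 (h.NN v0)
  have hNn : ∀ v, B n (N M v) = 0 := fun v => by rw [h.symm, h.Nn, B_zero_left]
  have hna : B n a = 0 := by rw [ha]; exact hNn v0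
  have hqa : q a = 1 := by rw [ha, h.vec, hv0]
  have hNa : ∀ v, B a (N M v) = 0 := fun v => by rw [ha]; exact h.isot v0 v
  have hN := N_X h.mem hq hna h.fix hMa
  obtain ⟨R, hR⟩ : ∃ R, R = X n a * M := ⟨_, rfl⟩
  rw [← hR] at hN
  have hRO : R ∈ O8 := by rw [hR]; exact mul_mem (X_mem_O8 _ _) h.mem
  have hMR : M = X n a * R := by rw [hR, ← mul_assoc, X_mul_self, one_mul]
  have han : B a n = 0 := by rw [B_comm]; exact hna
  have hTSI : TSI R := fun v => by
    rw [hN, hqa, one_mul]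
    have hvn : B (N M v) n = 0 := by rw [B_comm]; exact hNn v
    have hva : B (N M v) a = 0 := by rw [B_comm]; exact hNa v
    exact q_comb (h.vec v) hqa hq hva hvn han _
  have hBn : ∀ v, B n (N R v) = 0 := fun v => by
    rw [hN, B_add_right, B_add_right, B_add_right, hNn, B_smul_right, B_smul_right, B_smul_right, hna, B_self,
      mul_zero, mul_zero, mul_zero, add_zero, add_zero, add_zero]
  have hBa : ∀ v, B a (N R v) = 0 := fun v => by
    rw [hN, B_add_right, B_add_right, B_add_right, hNa, B_smul_right, B_smul_right, B_smul_right, han, B_self,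
      mul_zero, mul_zero, mul_zero, add_zero, add_zero, add_zero]
  -- the image
  let K : Submodule (ZMod 2) V :=
    { carrier := {w | ∃ v, N R v = w}
      zero_mem' := ⟨0, by unfold N; rw [map_zero, add_zero]⟩
      add_mem' := by
        rintro _ _ ⟨v, rfl⟩ ⟨w, rfl⟩
        exact ⟨v + w, N_add _ _ _⟩
      smul_mem' := by
        rintro a _ ⟨v, rfl⟩
        exact ⟨a • v, N_smul _ _ _⟩ }
  have hTS : TS q K := by
    rintro _ ⟨v, rfl⟩
    exact hTSI v
  have hk : Module.finrank (ZMod 2) K ≤ 3 := by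
    have hnd : (QuadraticMap.polarBilin q).Nondegenerate := by
      refine ⟨fun a ha => good.nondeg a ha, fun a ha => good.nondeg a fun b => ?_⟩
      rw [QuadraticMap.polar_comm]
      exact ha b
    have h1 := LinearMap.BilinForm.finrank_orthogonal hnd K
    rw [finrank_V] at h1
    have h2 : K < LinearMap.BilinForm.orthogonal (QuadraticMap.polarBilin q) K := by
      refine lt_of_le_of_ne ?_ ?_
      · rintro _ ⟨w, rfl⟩
        rw [LinearMap.BilinForm.mem_orthogonal_iff]
        rintro _ ⟨v, rfl⟩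
        exact hTSI.isot v w
      · intro e
        have h3 : a ∈ LinearMap.BilinForm.orthogonal (QuadraticMap.polarBilin q) K := by
          rw [LinearMap.BilinForm.mem_orthogonal_iff]
          rintro _ ⟨v, rfl⟩
          show B (N R v) a = 0
          rw [B_comm]
          exact hBa v
        rw [← e] at h3
        have h4 := hTS a h3
        rw [hqa] at h4
        exact absurd h4 (by decide)
    have h3 := Submodule.finrank_lt_finrank_of_lt h2
    omega
  by_cases hR1 : R = 1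
  · left
    exact ⟨n, a, hq, hn, hna, hqa, by rw [hMR, hR1, mul_one]⟩
  obtain ⟨s, t, hs, ht, hst, hs0, ht0, hne, e⟩ := isRoot_of_sub hTS hk hRO hR1 (fun v => ⟨v, rfl⟩)
  have hXN : ∀ v, N R v = B s v • t + B t v • s := fun v => by
    show R v + v = _
    rw [e, X_apply hs ht hst]
    calc v + B s v • t + B t v • s + v = (v + v) + (B s v • t + B t v • s) := by abel
      _ = _ := by rw [add_self, zero_add]
  obtain ⟨v1, a1, a2⟩ := exists_B hs0 ht0 hne 1 0
  obtain ⟨v2, b1, b2⟩ := exists_B hs0 ht0 hne 0 1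
  have h1 : N R v1 = t := by rw [hXN, a1, a2, one_smul, zero_smul, add_zero]
  have h2 : N R v2 = s := by rw [hXN, b1, b2, one_smul, zero_smul, zero_add]
  have hns : B n s = 0 := by rw [← h2]; exact hBn v2
  have hnt : B n t = 0 := by rw [← h1]; exact hBn v1
  have has : B a s = 0 := by rw [← h2]; exact hBa v2
  have hat : B a t = 0 := by rw [← h1]; exact hBa v1
  -- `X n a * X n b` is of type `c₂`
  have hc2 : ∀ b, q b = 0 → B n b = 0 → B a b = 0 → R = X n b → IsC2 M := by
    intro b hb hnb hab hRb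
    refine ⟨n, a + b, hq, hn, by rw [B_add_right, hna, hnb, add_zero], ?_, ?_⟩
    · rw [q_add, hqa, hb, hab, add_zero, add_zero]
    · rw [hMR, hRb, X_mul hq hna hnb]
  by_cases g1 : n = s
  · left
    exact hc2 t ht hnt hat (by rw [e, g1])
  by_cases g2 : n = t
  · left
    exact hc2 s hs hns has (by rw [e, g2, X_comm hs ht])
  by_cases g3 : n = s + t
  · left
    have e5 : q (s + t) = 0 := by rw [← g3]; exact hq
    refine hc2 t ht hnt hat ?_
    calc R = X s t := e
      _ = X t s := X_comm hs ht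
      _ = X t (s + t) := (X_add_right ht).symm
      _ = X (s + t) t := X_comm ht e5
      _ = X n t := by rw [g3]
  right
  exact ⟨a, s, t, hq, hqa, hs, ht, hna, hns, hnt, has, hat, hst, hs0, ht0, hne, g1, g2, g3, by rw [hMR, e]⟩

theorem li_four {n a s t : V} (hn : q n = 0) (ha : q a = 1) (hs : q s = 0) (ht : q t = 0) (hna : B n a = 0)
    (hns : B n s = 0) (hnt : B n t = 0) (has : B a s = 0) (hat : B a t = 0) (hst : B s t = 0)
    (hn0 : n ≠ 0) (hs0 : s ≠ 0) (ht0 : t ≠ 0) (hst' : s ≠ t) (h1 : n ≠ s) (h2 : n ≠ t) (h3 : n ≠ s + t) :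
    LinearIndependent (ZMod 2) ![n, a, s, t] := by
  rw [Fintype.linearIndependent_iff]
  intro c hc
  have hc' : c 0 • n + c 1 • a + c 2 • s + c 3 • t = 0 := by
    have := hc
    rw [Fin.sum_univ_four] at this
    exact this
  have h0 : c 1 = 0 := by
    rcases z2 (c 1) with h | h
    · exact h
    · exfalso
      have e := congrArg q hc'
      rw [q_add, q_add, q_add, B_add_left, B_add_left, B_add_left, q_zero, q_smul, q_smul, q_smul, q_smul] at e
      simp only [B_smul_left, B_smul_right, hn, ha, hs, ht, hna, hns, hnt, has, hat, hst, h, mul_zero, add_zero,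
        mul_one, zero_add] at e
      exact absurd e (by decide)
  rw [h0, zero_smul, add_zero] at hc'
  have h12 : c 0 = 0 ∧ c 2 = 0 ∧ c 3 = 0 := by
    rcases z2 (c 0) with h | h <;> rcases z2 (c 2) with h' | h' <;> rcases z2 (c 3) with h'' | h'' <;>
      rw [h, h', h''] at hc' <;> simp only [zero_smul, one_smul, add_zero, zero_add] at hc'
    · exact ⟨h, h', h''⟩
    · exact absurd hc' ht0
    · exact absurd hc' hs0
    · exact absurd (eq_of_add_eq_zero hc') hst'
    · exact absurd hc' hn0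
    · exact absurd (eq_of_add_eq_zero hc') h2
    · exact absurd (eq_of_add_eq_zero hc') h1
    · rw [add_assoc] at hc'
      exact absurd (eq_of_add_eq_zero hc') h3
  intro i
  fin_cases i
  · exact h12.1
  · exact h0
  · exact h12.2.1
  · exact h12.2.2

/-- `w0` as a product of two commuting transformations -/
theorem w0_eq : ((w0 : Om) : V ≃ₗ[ZMod 2] V) = X (bv 0) (bv 5) * X (bv 2) (bv 3 + bv 7) := by
  have e1 : xO ![1, -1, 0, 0] = xb 0 5 := by
    rw [← xO_wt (i := 0) (j := 5) (by decide)]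
    congr 1
    decide
  have e2 : xO ![0, 0, 1, -1] = xb 2 7 := by
    rw [← xO_wt (i := 2) (j := 7) (by decide)]
    congr 1
    decide
  have e3 : xO ![0, 0, 1, 1] = xb 2 3 := by
    rw [← xO_wt (i := 2) (j := 3) (by decide)]
    congr 1
    decide
  show xO ![1, -1, 0, 0] * xO ![0, 0, 1, -1] * xO ![0, 0, 1, 1] = _
  rw [e1, e2, e3, mul_assoc, xb_mul (by decide) (by decide), add_comm (bv 7)]
  rfl

/-- all involutions of this form are conjugate under the isometry group -/
theorem exists_conj_w0 {M : V ≃ₗ[ZMod 2] V} {n a s t : V} (hMM : M * M = 1) (hn : q n = 0) (ha : q a = 1) (hs : q s = 0)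
    (ht : q t = 0) (hna : B n a = 0) (hns : B n s = 0) (hnt : B n t = 0) (has : B a s = 0) (hat : B a t = 0)
    (hst : B s t = 0) (hn0 : n ≠ 0) (hs0 : s ≠ 0) (ht0 : t ≠ 0) (hst' : s ≠ t) (h1 : n ≠ s) (h2 : n ≠ t)
    (h3 : n ≠ s + t) (hM : M = X n a * X s t) : ∃ g ∈ O8, g * M * g⁻¹ = ((w0 : Om) : V ≃ₗ[ZMod 2] V) := by
  have k1 : q (bv 3 + bv 7) = 1 := (z2 _).resolve_left q37
  have k2 : B (bv 2) (bv 3 + bv 7) = 0 := by rw [B_add_right, B_bv, B_bv]; decide
  have k3 : B (bv 2) (bv 0) = 0 := by rw [B_bv]; decide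
  have k4 : B (bv 2) (bv 5) = 0 := by rw [B_bv]; decide
  have k5 : B (bv 3 + bv 7) (bv 0) = 0 := by rw [B_add_left, B_bv, B_bv]; decide
  have k6 : B (bv 3 + bv 7) (bv 5) = 0 := by rw [B_add_left, B_bv, B_bv]; decide
  have k7 : B (bv 0) (bv 5) = 0 := by rw [B_bv]; decide
  have k8 : bv 2 ≠ bv 0 + bv 5 := by
    intro h
    have h4 : B (bv 2) (bv 6) = B (bv 0 + bv 5) (bv 6) := by rw [h]
    rw [B_add_left, B_bv, B_bv, B_bv] at h4
    exact absurd h4 (by decide)
  obtain ⟨g, hg, hgn⟩ := exists_isometry (x := ![n, a, s, t]) (y := ![bv 2, bv 3 + bv 7, bv 0, bv 5])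
    (li_four hn ha hs ht hna hns hnt has hat hst hn0 hs0 ht0 hst' h1 h2 h3)
    (li_four (q_bv 2) k1 (q_bv 0) (q_bv 5) k2 k3 k4 k5 k6 k7 (bv_ne 2) (bv_ne 0) (bv_ne 5)
      (fun h => absurd (bv_inj h) (by decide)) (fun h => absurd (bv_inj h) (by decide))
      (fun h => absurd (bv_inj h) (by decide)) k8)
    (fun i => by
      fin_cases i
      · show q n = q (bv 2)
        rw [hn, q_bv]
      · show q a = q (bv 3 + bv 7)
        rw [ha, k1]
      · show q s = q (bv 0)
        rw [hs, q_bv]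
      · show q t = q (bv 5)
        rw [ht, q_bv])
    (fun i j => by
      fin_cases i <;> fin_cases j
      · show B n n = B (bv 2) (bv 2)
        rw [B_self, B_self]
      · show B n a = B (bv 2) (bv 3 + bv 7)
        rw [hna, k2]
      · show B n s = B (bv 2) (bv 0)
        rw [hns, k3]
      · show B n t = B (bv 2) (bv 5)
        rw [hnt, k4]
      · show B a n = B (bv 3 + bv 7) (bv 2)
        rw [B_comm a, B_comm (bv 3 + bv 7), hna, k2]
      · show B a a = B (bv 3 + bv 7) (bv 3 + bv 7)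
        rw [B_self, B_self]
      · show B a s = B (bv 3 + bv 7) (bv 0)
        rw [has, k5]
      · show B a t = B (bv 3 + bv 7) (bv 5)
        rw [hat, k6]
      · show B s n = B (bv 0) (bv 2)
        rw [B_comm s, B_comm (bv 0), hns, k3]
      · show B s a = B (bv 0) (bv 3 + bv 7)
        rw [B_comm s, B_comm (bv 0), has, k5]
      · show B s s = B (bv 0) (bv 0)
        rw [B_self, B_self]
      · show B s t = B (bv 0) (bv 5)
        rw [hst, k7]
      · show B t n = B (bv 5) (bv 2)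
        rw [B_comm t, B_comm (bv 5), hnt, k4]
      · show B t a = B (bv 5) (bv 3 + bv 7)
        rw [B_comm t, B_comm (bv 5), hat, k6]
      · show B t s = B (bv 5) (bv 0)
        rw [B_comm t, B_comm (bv 5), hst, k7]
      · show B t t = B (bv 5) (bv 5)
        rw [B_self, B_self])
  have g0 : g n = bv 2 := hgn 0
  have g1 : g a = bv 3 + bv 7 := hgn 1
  have g2 : g s = bv 0 := hgn 2
  have g3 : g t = bv 5 := hgn 3
  refine ⟨g, hg, ?_⟩
  have e1 : g * M * g⁻¹ = (g * M * g⁻¹)⁻¹ := by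
    apply eq_inv_of_mul_eq_one_left
    calc g * M * g⁻¹ * (g * M * g⁻¹) = g * (M * M) * g⁻¹ := by group
      _ = 1 := by rw [hMM]; group
  have e2 : g * M * g⁻¹ = X (bv 2) (bv 3 + bv 7) * X (bv 0) (bv 5) := by
    calc g * M * g⁻¹ = (g * X n a * g⁻¹) * (g * X s t * g⁻¹) := by rw [hM]; group
      _ = _ := by rw [X_conj hg, X_conj hg, g0, g1, g2, g3]
  rw [e1, e2, mul_inv_rev, X_inv, X_inv, w0_eq]

/-- **(P4), case (b)**: the involutions `w` with `b(v, w v) ≠ 0` for some `v` -/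
theorem class_b' (w : Om) (hw : w * w = 1) (hf : ∃ v, B v ((w : V ≃ₗ[ZMod 2] V) v) ≠ 0) :
    IsC2 (w : V ≃ₗ[ZMod 2] V) ∨ ∃ M : O8, cj M w = w0 := by
  have hM : (w : V ≃ₗ[ZMod 2] V) ∈ O8 := Om_le w.2
  have hMM : (w : V ≃ₗ[ZMod 2] V) * w = 1 := congrArg Subtype.val hw
  obtain ⟨n, h⟩ := exists_inv hM hMM
  have hn : n ≠ 0 := by
    rintro rfl
    obtain ⟨v, hv⟩ := hf
    apply hv
    have h1 := h.vec v
    rw [B_zero_left] at h1
    unfold N at h1
    rw [q_add, O8_q hM, zz, zero_add, B_comm] at h1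
    exact h1
  rcases exists_form h w.2 hn with h1 | ⟨a, s, t, h1, h2, h3, h4, h5, h6, h7, h8, h9, h10, h11, h12, h13, h14, h15, h16, h17⟩
  · exact Or.inl h1
  · obtain ⟨g, hg, e⟩ := exists_conj_w0 hMM h1 h2 h3 h4 h5 h6 h7 h8 h9 h10 hn h11 h12 h13 h14 h15 h16 h17
    exact Or.inr ⟨⟨g, hg⟩, Subtype.ext e⟩

/-- **(P4), case (b)** -/
theorem class_b : ∀ w : Om, w * w = 1 → w ≠ 1 → (∃ v, B v ((w : V ≃ₗ[ZMod 2] V) v) ≠ 0) →
    ∃ α : MulAut Om, IsRoot ((α w : Om) : V ≃ₗ[ZMod 2] V) ∨ IsC2 ((α w : Om) : V ≃ₗ[ZMod 2] V) ∨ α w = w0 := by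
  intro w hw _ hf
  rcases class_b' w hw hf with h | ⟨M, h⟩
  · exact ⟨1, Or.inr (Or.inl h)⟩
  · exact ⟨cj M, Or.inr (Or.inr h)⟩

end Cfsg.Agent.OddHalf.NI3.Ex4.O8
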