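import Cfsg.Agent.OddHalf.NI3.Ex4.OEight.Base
import Cfsg.Agent.StdO8.EvenLin

/-!
# (EX4), the row `Ω₈⁺(2)`: the root involutions

`dead_root` : a root element of `Ω₈⁺(2)` is `Dead`.
-/

set_option autoImplicit false
set_option linter.style.haveILetI false

namespace Cfsg.Agent.OddHalf.NI3.Ex4.O8

open Subgroup Cfsg Cfsg.Agent.OddHalf.NI3.Ex4
open Cfsg.Agent.StdO8.Model Cfsg.Agent.StdO8.Bas Cfsg.Agent.StdO8.Root Cfsg.Agent.StdO8.Aut Cfsg.Agent.StdO8.EvenLin

universe u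

/-- a normal 2-subgroup of `C(z)` lies in `O₂(C(z))` -/
theorem le_OO2_of {X : Type u} [Group X] {z : X} {R : Subgroup X} (h1 : ∀ r ∈ R, r * z = z * r)
    (h2 : IsPGroup 2 ↥R) (h3 : ∀ g, g * z = z * g → ∀ r ∈ R, g * r * g⁻¹ ∈ R) : R ≤ OO2 z := by
  intro r hr
  have hrc : r ∈ centralizer ({z} : Set X) := mem_centralizer_singleton_iff.2 (h1 r hr)
  have hn : (R.subgroupOf (centralizer ({z} : Set X))).Normal := by
    refine ⟨fun n hn g => ?_⟩
    exact h3 g (mem_centralizer_singleton_iff.1 g.2) n hn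
  have h4 : IsPGroup 2 ↥(R.subgroupOf (centralizer ({z} : Set X))) :=
    h2.comap_of_injective _ (Subgroup.subtype_injective _)
  exact ⟨⟨r, hrc⟩, Lib.Cores.le_pCore hn h4 hr, rfl⟩

theorem li_two {u w : V} (h1 : u ≠ 0) (h2 : w ≠ 0) (h3 : u ≠ w) : LinearIndependent (ZMod 2) ![u, w] := by
  rw [Fintype.linearIndependent_iff]
  intro c hc
  rw [Fin.sum_univ_two] at hc
  have hc' : c 0 • u + c 1 • w = 0 := hc
  have h4 : c 0 = 0 ∧ c 1 = 0 := by
    rcases z2 (c 0) with e | e <;> rcases z2 (c 1) with f | f <;> rw [e, f] at hc'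
    · exact ⟨e, f⟩
    · rw [zero_smul, one_smul, zero_add] at hc'; exact absurd hc' h2
    · rw [zero_smul, one_smul, add_zero] at hc'; exact absurd hc' h1
    · rw [one_smul, one_smul] at hc'; exact absurd (eq_of_add_eq_zero hc') h3
  intro i
  fin_cases i
  · exact h4.1
  · exact h4.2

/-- the root elements are conjugate -/
theorem conj_root {c : V ≃ₗ[ZMod 2] V} (hc : IsRoot c) : ∃ M ∈ O8, M * xb 0 1 * M⁻¹ = c := by
  obtain ⟨u, w, h1, h2, h3, h4, h5, h6, rfl⟩ := hc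
  obtain ⟨M, hM, h⟩ := exists_isometry (x := ![bv 0, bv 1]) (y := ![u, w])
    (li_two (bv_ne 0) (bv_ne 1) (fun h => by
      have h7 : B (bv 0) (bv 4) = B (bv 1) (bv 4) := by rw [h]
      rw [B_bv, B_bv] at h7
      exact absurd h7 (by decide))) (li_two h4 h5 h6) (by
      intro i
      fin_cases i
      · exact (q_bv 0).trans h1.symm
      · exact (q_bv 1).trans h2.symm) (by
      intro i j
      fin_cases i <;> fin_cases j
      · exact (B_self _).trans (B_self _).symm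
      · exact (B_ok (by decide)).trans h3.symm
      · exact (B_ok (by decide)).trans ((B_comm _ _).trans h3).symm
      · exact (B_self _).trans (B_self _).symm)
  refine ⟨M, hM, ?_⟩
  have e0 : M (bv 0) = u := h 0
  have e1 : M (bv 1) = w := h 1
  rw [xb_conj hM, e0, e1]

/-- `⟨bv 0, bv 1⟩^⊥` -/
def Perp (v : V) : Prop := B (bv 0) v = 0 ∧ B (bv 1) v = 0

/-- `⟨bv 0, bv 1⟩` -/
def Line (v : V) : Prop := v = 0 ∨ v = bv 0 ∨ v = bv 1 ∨ v = bv 0 + bv 1

theorem Line.perp {v : V} (h : Line v) : Perp v := by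
  have h01 : B (bv 0) (bv 1) = 0 := B_ok (by decide)
  have h10 : B (bv 1) (bv 0) = 0 := B_ok (by decide)
  rcases h with rfl | rfl | rfl | rfl
  · exact ⟨B_zero_right _, B_zero_right _⟩
  · exact ⟨B_self _, h10⟩
  · exact ⟨h01, B_self _⟩
  · exact ⟨by rw [B_add_right, B_self, h01, add_zero], by rw [B_add_right, B_self, h10, add_zero]⟩

theorem Line.add {v w : V} (h : Line v) (h' : Line w) : Line (v + w) := by
  have e : ∀ a b : V, a + b + a = b := fun a b => by rw [add_comm a b, add_assoc, add_self, add_zero]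
  rcases h with rfl | rfl | rfl | rfl <;> rcases h' with rfl | rfl | rfl | rfl
  · exact Or.inl (add_zero _)
  · rw [zero_add]; exact Or.inr (Or.inl rfl)
  · rw [zero_add]; exact Or.inr (Or.inr (Or.inl rfl))
  · rw [zero_add]; exact Or.inr (Or.inr (Or.inr rfl))
  · rw [add_zero]; exact Or.inr (Or.inl rfl)
  · exact Or.inl (add_self _)
  · exact Or.inr (Or.inr (Or.inr rfl))
  · rw [← add_assoc, add_self, zero_add]; exact Or.inr (Or.inr (Or.inl rfl))
  · rw [add_zero]; exact Or.inr (Or.inr (Or.inl rfl))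
  · rw [add_comm]; exact Or.inr (Or.inr (Or.inr rfl))
  · exact Or.inl (add_self _)
  · rw [add_comm (bv 0) (bv 1), ← add_assoc, add_self, zero_add]; exact Or.inr (Or.inl rfl)
  · rw [add_zero]; exact Or.inr (Or.inr (Or.inr rfl))
  · rw [e]; exact Or.inr (Or.inr (Or.inl rfl))
  · rw [add_assoc, add_self, add_zero]; exact Or.inr (Or.inl rfl)
  · exact Or.inl (add_self _)

theorem Perp.add {v w : V} (h : Perp v) (h' : Perp w) : Perp (v + w) :=
  ⟨by rw [B_add_right, h.1, h'.1, add_zero], by rw [B_add_right, h.2, h'.2, add_zero]⟩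

theorem b04 : B (bv 0) (bv 4) = 1 := by rw [B_bv]; decide
theorem b05 : B (bv 0) (bv 5) = 0 := by rw [B_bv]; decide
theorem b14 : B (bv 1) (bv 4) = 0 := by rw [B_bv]; decide
theorem b15 : B (bv 1) (bv 5) = 1 := by rw [B_bv]; decide
theorem b01 : B (bv 0) (bv 1) = 0 := by rw [B_bv]; decide
theorem b10 : B (bv 1) (bv 0) = 0 := by rw [B_bv]; decide
theorem b45 : B (bv 4) (bv 5) = 0 := by rw [B_bv]; decide

theorem perp_sub (y : V) : Perp (y + (B (bv 0) y • bv 4 + B (bv 1) y • bv 5)) := by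
  constructor
  · rw [B_add_right, B_add_right, B_smul_right, B_smul_right, b04, b05]
    generalize B (bv 0) y = a
    generalize B (bv 1) y = b
    revert a b; decide
  · rw [B_add_right, B_add_right, B_smul_right, B_smul_right, b14, b15]
    generalize B (bv 0) y = a
    generalize B (bv 1) y = b
    revert a b; decide

/-- the double perp -/
theorem line_of {v : V} (h : ∀ y, Perp y → B v y = 0) : Line v := by
  have h4 : ∀ y, B (v + (B v (bv 4) • bv 0 + B v (bv 5) • bv 1)) y = 0 := by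
    intro y
    have h5 := h _ (perp_sub y)
    rw [B_add_right, B_add_right, B_smul_right, B_smul_right] at h5
    rw [B_add_left, B_add_left, B_smul_left, B_smul_left]
    revert h5
    generalize B (bv 0) y = a
    generalize B (bv 1) y = b
    generalize B v (bv 4) = c
    generalize B v (bv 5) = d
    generalize B v y = e
    revert a b c d e; decide
  have h6 := eq_of_add_eq_zero (nondeg h4)
  rw [h6]
  rcases z2 (B v (bv 4)) with a | a <;> rcases z2 (B v (bv 5)) with b | b <;> rw [a, b] <;> simp [Line]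

/-! ### The unipotent radical of the stabiliser of the line -/

/-- `O₂(C(z))`, `z = xb 0 1` -/
def RR : Subgroup Om where
  carrier := {g | (∀ v, Line v → (g : V ≃ₗ[ZMod 2] V) v = v) ∧ (∀ v, Perp v → Line ((g : V ≃ₗ[ZMod 2] V) v + v)) ∧
    ∀ v, Perp ((g : V ≃ₗ[ZMod 2] V) v + v)}
  one_mem' := by
    refine ⟨fun v _ => rfl, fun v _ => ?_, fun v => ?_⟩
    · change Line (v + v)
      rw [add_self]; exact Or.inl rfl
    · change Perp (v + v)
      rw [add_self]; exact ⟨B_zero_right _, B_zero_right _⟩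
  mul_mem' := by
    rintro a b ⟨a1, a2, a3⟩ ⟨b1, b2, b3⟩
    have e : ∀ v, (a : V ≃ₗ[ZMod 2] V) ((b : V ≃ₗ[ZMod 2] V) v) + v =
        ((a : V ≃ₗ[ZMod 2] V) ((b : V ≃ₗ[ZMod 2] V) v) + (b : V ≃ₗ[ZMod 2] V) v) + ((b : V ≃ₗ[ZMod 2] V) v + v) := by
      intro v
      rw [add_assoc, ← add_assoc ((b : V ≃ₗ[ZMod 2] V) v), add_self, zero_add]
    refine ⟨fun v hv => ?_, fun v hv => ?_, fun v => ?_⟩
    · change (a : V ≃ₗ[ZMod 2] V) ((b : V ≃ₗ[ZMod 2] V) v) = v
      rw [b1 v hv, a1 v hv]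
    · change Line ((a : V ≃ₗ[ZMod 2] V) ((b : V ≃ₗ[ZMod 2] V) v) + v)
      rw [e]
      have h1 : Perp ((b : V ≃ₗ[ZMod 2] V) v) := by
        have h2 := (b2 v hv).perp.add hv
        rwa [add_assoc, add_self, add_zero] at h2
      exact (a2 _ h1).add (b2 v hv)
    · change Perp ((a : V ≃ₗ[ZMod 2] V) ((b : V ≃ₗ[ZMod 2] V) v) + v)
      rw [e]
      exact (a3 _).add (b3 v)
  inv_mem' := by
    rintro a ⟨a1, a2, a3⟩
    have e : ∀ v, (a : V ≃ₗ[ZMod 2] V) ((a : V ≃ₗ[ZMod 2] V)⁻¹ v) = v := fun v => by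
      rw [← LinearEquiv.mul_apply, mul_inv_cancel]; rfl
    have e1 : ∀ v, Line v → (a : V ≃ₗ[ZMod 2] V)⁻¹ v = v := by
      intro v hv
      apply (a : V ≃ₗ[ZMod 2] V).injective
      rw [e, a1 v hv]
    have e2 : ∀ v, Perp v → (a : V ≃ₗ[ZMod 2] V)⁻¹ v = v + ((a : V ≃ₗ[ZMod 2] V) v + v) := by
      intro v hv
      apply (a : V ≃ₗ[ZMod 2] V).injective
      rw [e, map_add, a1 _ (a2 v hv), ← add_assoc, add_self, zero_add]
    refine ⟨e1, fun v hv => ?_, fun v => ?_⟩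
    · change Line ((a : V ≃ₗ[ZMod 2] V)⁻¹ v + v)
      rw [e2 v hv, add_comm v, add_assoc, add_self, add_zero]
      exact a2 v hv
    · change Perp ((a : V ≃ₗ[ZMod 2] V)⁻¹ v + v)
      have h1 := a3 ((a : V ≃ₗ[ZMod 2] V)⁻¹ v)
      rw [e, add_comm] at h1
      exact h1

theorem mem_RR {g : Om} : g ∈ RR ↔ (∀ v, Line v → (g : V ≃ₗ[ZMod 2] V) v = v) ∧
    (∀ v, Perp v → Line ((g : V ≃ₗ[ZMod 2] V) v + v)) ∧ ∀ v, Perp ((g : V ≃ₗ[ZMod 2] V) v + v) := Iff.rfl

theorem RR_two : IsPGroup 2 ↥RR := by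
  rintro ⟨g, hg⟩
  refine ⟨2, Subtype.ext (Subtype.ext ?_)⟩
  obtain ⟨h1, h2, h3⟩ := mem_RR.1 hg
  have e : ((((⟨g, hg⟩ : ↥RR) ^ 2 ^ 2 : ↥RR) : Om) : V ≃ₗ[ZMod 2] V) =
      ((g : V ≃ₗ[ZMod 2] V) * g) * (g * g) := by
    have e1 : (⟨g, hg⟩ : ↥RR) ^ 2 ^ 2 = (⟨g, hg⟩ * ⟨g, hg⟩) * (⟨g, hg⟩ * ⟨g, hg⟩) := by
      rw [show (2 : ℕ) ^ 2 = 4 by norm_num, pow_succ, pow_succ, pow_succ, pow_one]
      group
    rw [e1]; rfl
  rw [e]
  -- `g² v = v + n₂`
  have key : ∀ v, ∃ n, Line n ∧ (g : V ≃ₗ[ZMod 2] V) ((g : V ≃ₗ[ZMod 2] V) v) = v + n := by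
    intro v
    refine ⟨_, h2 _ (h3 v), ?_⟩
    have e2 : (g : V ≃ₗ[ZMod 2] V) v = v + ((g : V ≃ₗ[ZMod 2] V) v + v) := by
      rw [add_comm _ v, ← add_assoc, add_self, zero_add]
    have e3 : (g : V ≃ₗ[ZMod 2] V) ((g : V ≃ₗ[ZMod 2] V) v) =
        (g : V ≃ₗ[ZMod 2] V) v + (g : V ≃ₗ[ZMod 2] V) ((g : V ≃ₗ[ZMod 2] V) v + v) := by
      conv_lhs => rw [e2]
      rw [map_add]
    rw [e3]
    generalize (g : V ≃ₗ[ZMod 2] V) ((g : V ≃ₗ[ZMod 2] V) v + v) = m
    generalize (g : V ≃ₗ[ZMod 2] V) v = k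
    have e4 : v + (m + (k + v)) = (v + v) + (k + m) := by abel
    rw [e4, add_self, zero_add]
  refine LinearEquiv.ext fun v => ?_
  change (g : V ≃ₗ[ZMod 2] V) ((g : V ≃ₗ[ZMod 2] V) ((g : V ≃ₗ[ZMod 2] V) ((g : V ≃ₗ[ZMod 2] V) v))) = v
  obtain ⟨n, hn, e2⟩ := key v
  rw [e2, map_add, map_add, e2, h1 n hn, h1 n hn, add_assoc, add_self, add_zero]

/-- the standard root element -/
noncomputable def zc : Om := ⟨xb 0 1, xb_mem 0 1⟩

theorem zc_ne : zc ≠ 1 := fun h => xb_ne (i := 0) (j := 1) (by decide) (congrArg Subtype.val h)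

theorem zc_sq : zc * zc = 1 := Subtype.ext (xb_sq 0 1)

theorem line_iff {g : V ≃ₗ[ZMod 2] V} (hg : g ∈ O8) (h : g * xb 0 1 = xb 0 1 * g) {v : V} (hv : Line v) :
    Line (g v) := by
  have h1 := mem_of_commute hg (q_bv 0) (q_bv 1) b01 (bv_ne 0) (bv_ne 1) (fun h => by
    have h7 : B (bv 0) (bv 4) = B (bv 1) (bv 4) := by rw [h]
    rw [b04, b14] at h7
    exact absurd h7 (by decide)) h
  have h2 : Line (g (bv 0)) := by
    rcases h1.1 with e | e | e <;> rw [e]
    · exact Or.inr (Or.inl rfl)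
    · exact Or.inr (Or.inr (Or.inl rfl))
    · exact Or.inr (Or.inr (Or.inr rfl))
  have h3 : Line (g (bv 1)) := by
    rcases h1.2 with e | e | e <;> rw [e]
    · exact Or.inr (Or.inl rfl)
    · exact Or.inr (Or.inr (Or.inl rfl))
    · exact Or.inr (Or.inr (Or.inr rfl))
  rcases hv with rfl | rfl | rfl | rfl
  · rw [map_zero]; exact Or.inl rfl
  · exact h2
  · exact h3
  · rw [map_add]; exact h2.add h3

theorem inv_comm {g : V ≃ₗ[ZMod 2] V} (h : g * xb 0 1 = xb 0 1 * g) : g⁻¹ * xb 0 1 = xb 0 1 * g⁻¹ := by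
  calc g⁻¹ * xb 0 1 = g⁻¹ * (xb 0 1 * g) * g⁻¹ := by group
    _ = g⁻¹ * (g * xb 0 1) * g⁻¹ := by rw [h]
    _ = xb 0 1 * g⁻¹ := by group

theorem perp_iff {g : V ≃ₗ[ZMod 2] V} (hg : g ∈ O8) (h : g * xb 0 1 = xb 0 1 * g) {v : V} (hv : Perp v) :
    Perp (g v) := by
  have hg' : g⁻¹ ∈ O8 := inv_mem hg
  have key : ∀ u, Line u → B u (g v) = 0 := by
    intro u hu
    have h1 := line_iff hg' (inv_comm h) hu
    have h2 : B u (g v) = B (g⁻¹ u) v := by
      have h3 := O8_B hg (g⁻¹ u) v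
      have h4 : g (g⁻¹ u) = u := by rw [← LinearEquiv.mul_apply, mul_inv_cancel]; rfl
      rw [h4] at h3
      exact h3
    rw [h2]
    generalize g⁻¹ u = u' at h1
    rcases h1 with rfl | rfl | rfl | rfl
    · exact B_zero_left _
    · exact hv.1
    · exact hv.2
    · rw [B_add_left, hv.1, hv.2, add_zero]
  exact ⟨key _ (Or.inr (Or.inl rfl)), key _ (Or.inr (Or.inr (Or.inl rfl)))⟩

theorem RR_comm {g : Om} (hg : g ∈ RR) : g * zc = zc * g := by
  apply Subtype.ext
  have h1 := (mem_RR.1 hg).1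
  have h2 := xb_conj (Om_le g.2) 0 1
  rw [h1 _ (Or.inr (Or.inl rfl)), h1 _ (Or.inr (Or.inr (Or.inl rfl)))] at h2
  exact mul_inv_eq_iff_eq_mul.1 h2

theorem RR_conj {h : Om} (hh : h * zc = zc * h) {g : Om} (hg : g ∈ RR) : h * g * h⁻¹ ∈ RR := by
  have hc : (h : V ≃ₗ[ZMod 2] V) * xb 0 1 = xb 0 1 * h := congrArg Subtype.val hh
  have hO := Om_le h.2
  have hO' : (h : V ≃ₗ[ZMod 2] V)⁻¹ ∈ O8 := inv_mem hO
  obtain ⟨g1, g2, g3⟩ := mem_RR.1 hg
  have e0 : ∀ v, (h : V ≃ₗ[ZMod 2] V) ((h : V ≃ₗ[ZMod 2] V)⁻¹ v) = v := fun v => by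
    rw [← LinearEquiv.mul_apply, mul_inv_cancel]; rfl
  have e : ∀ v, ((h * g * h⁻¹ : Om) : V ≃ₗ[ZMod 2] V) v =
      (h : V ≃ₗ[ZMod 2] V) ((g : V ≃ₗ[ZMod 2] V) ((h : V ≃ₗ[ZMod 2] V)⁻¹ v)) := fun v => rfl
  have e' : ∀ v, ((h * g * h⁻¹ : Om) : V ≃ₗ[ZMod 2] V) v + v =
      (h : V ≃ₗ[ZMod 2] V) ((g : V ≃ₗ[ZMod 2] V) ((h : V ≃ₗ[ZMod 2] V)⁻¹ v) + (h : V ≃ₗ[ZMod 2] V)⁻¹ v) := by
    intro v
    rw [e, map_add, e0]
  refine mem_RR.2 ⟨fun v hv => ?_, fun v hv => ?_, fun v => ?_⟩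
  · rw [e, g1 _ (line_iff hO' (inv_comm hc) hv), e0]
  · rw [e']
    exact line_iff hO hc (g2 _ (perp_iff hO' (inv_comm hc) hv))
  · rw [e']
    exact perp_iff hO hc (g3 _)

theorem RR_le : RR ≤ OO2 zc :=
  le_OO2_of (fun _ hr => RR_comm hr) RR_two (fun _ hg _ hr => RR_conj hg hr)

/-- the Siegel transformations of `O₂(C(z))` -/
theorem X_mem_RR {a y : V} (ha : a = bv 0 ∨ a = bv 1) (hy : Perp y) : (⟨X a y, X_mem a y⟩ : Om) ∈ RR := by
  have hq : q a = 0 := by rcases ha with rfl | rfl <;> exact q_bv _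
  have hB : B a y = 0 := by rcases ha with rfl | rfl; exacts [hy.1, hy.2]
  have hL : Line a := by rcases ha with rfl | rfl; exacts [Or.inr (Or.inl rfl), Or.inr (Or.inr (Or.inl rfl))]
  have hBa : ∀ v, Perp v → B a v = 0 := by
    intro v hv
    rcases ha with rfl | rfl; exacts [hv.1, hv.2]
  have hyL : ∀ v, Line v → B y v = 0 := by
    intro v hv
    rw [B_comm]
    rcases hv with rfl | rfl | rfl | rfl
    · exact B_zero_left _
    · exact hy.1
    · exact hy.2
    · rw [B_add_left, hy.1, hy.2, add_zero]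
  have hsm : ∀ c : ZMod 2, Line (c • a) := by
    intro c
    rcases z2 c with h | h
    · rw [h, zero_smul]; exact Or.inl rfl
    · rw [h, one_smul]; exact hL
  have e : ∀ v, X a y v + v = B a v • y + (B y v • a + (q y * B a v) • a) := by
    intro v
    rw [X_apply' hq hB]
    generalize B a v • y = s
    generalize B y v • a = t
    generalize (q y * B a v) • a = r
    have : v + s + t + r + v = (v + v) + (s + (t + r)) := by abel
    rw [this, add_self, zero_add]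
  refine mem_RR.2 ⟨fun v hv => ?_, fun v hv => ?_, fun v => ?_⟩
  · change X a y v = v
    rw [X_apply' hq hB, hBa v hv.perp, hyL v hv]
    simp
  · change Line (X a y v + v)
    rw [e, hBa v hv, zero_smul, zero_add, mul_zero, zero_smul, add_zero]
    exact hsm _
  · change Perp (X a y v + v)
    rw [e]
    refine Perp.add ?_ (Perp.add (hsm _).perp (hsm _).perp)
    rcases z2 (B a v) with h | h
    · rw [h, zero_smul]; exact ⟨B_zero_right _, B_zero_right _⟩
    · rw [h, one_smul]; exact hy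

/-! ### The centralizer of `RR` -/

theorem eq_of_X {u w w' : V} (hu : q u = 0) (hw : B u w = 0) (hw' : B u w' = 0) (hu0 : u ≠ 0)
    (h : X u w = X u w') : w' = w ∨ w' = w + u := by
  have h1 : X u (w + w') = 1 := by
    rw [← X_mul hu hw hw', ← h, X_mul_self]
  obtain ⟨v, hv⟩ := exists_one hu0
  have hB : B u (w + w') = 0 := by rw [B_add_right, hw, hw', add_zero]
  have h2 : X u (w + w') v = v := by rw [h1]; rfl
  rw [X_apply' hu hB, hv, one_smul, mul_one] at h2
  have h3 : (w + w') + (B (w + w') v • u + q (w + w') • u) = 0 := by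
    have h4 : v + ((w + w') + (B (w + w') v • u + q (w + w') • u)) = v := by
      rw [← add_assoc, ← add_assoc]; exact h2
    exact left_eq_add.1 h4.symm
  rw [← add_smul] at h3
  have h5 := eq_of_add_eq_zero h3
  rcases z2 (B (w + w') v + q (w + w')) with h6 | h6
  · rw [h6, zero_smul] at h5
    exact Or.inl (eq_of_add_eq_zero h5).symm
  · rw [h6, one_smul] at h5
    right
    rw [← h5, ← add_assoc, add_self, zero_add]

theorem cent_RR {g : Om} (h : ∀ r ∈ RR, g * r = r * g) : g = 1 ∨ g = zc := by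
  have hg := Om_le g.2
  have hX : ∀ a y : V, (a = bv 0 ∨ a = bv 1) → Perp y →
      (g : V ≃ₗ[ZMod 2] V) * X a y = X a y * g := fun a y ha hy => congrArg Subtype.val (h _ (X_mem_RR ha hy))
  have p2 : Perp (bv 2) := ⟨by rw [B_bv]; decide, by rw [B_bv]; decide⟩
  have p3 : Perp (bv 3) := ⟨by rw [B_bv]; decide, by rw [B_bv]; decide⟩
  have key : ∀ a : V, (a = bv 0 ∨ a = bv 1) → (g : V ≃ₗ[ZMod 2] V) a = a := by
    intro a ha
    have hq : q a = 0 := by rcases ha with rfl | rfl <;> exact q_bv _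
    have ha0 : a ≠ 0 := by rcases ha with rfl | rfl <;> exact bv_ne _
    have h6 : B a (bv 6) = 0 := by rcases ha with rfl | rfl <;> · rw [B_bv]; decide
    have b26 : B (bv 2) (bv 6) = 1 := by rw [B_bv]; decide
    have b36 : B (bv 3) (bv 6) = 0 := by rw [B_bv]; decide
    have hne2 : a ≠ bv 2 := fun e => by rw [e, b26] at h6; exact absurd h6 (by decide)
    have h7 : B a (bv 7) = 0 := by rcases ha with rfl | rfl <;> · rw [B_bv]; decide
    have b37 : B (bv 3) (bv 7) = 1 := by rw [B_bv]; decide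
    have hne3 : a ≠ bv 3 := fun e => by rw [e, b37] at h7; exact absurd h7 (by decide)
    have B2 : B a (bv 2) = 0 := by rcases ha with rfl | rfl <;> · rw [B_bv]; decide
    have B3 : B a (bv 3) = 0 := by rcases ha with rfl | rfl <;> · rw [B_bv]; decide
    have h1 := (mem_of_commute hg hq (q_bv 2) B2 ha0 (bv_ne 2) hne2 (hX a _ ha p2)).1
    have h2 := (mem_of_commute hg hq (q_bv 3) B3 ha0 (bv_ne 3) hne3 (hX a _ ha p3)).1
    have h3 : B ((g : V ≃ₗ[ZMod 2] V) a) (bv 6) = 0 := by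
      rcases h2 with e | e | e <;> rw [e]
      · exact h6
      · exact b36
      · rw [B_add_left, h6, b36, add_zero]
    rcases h1 with e | e | e
    · exact e
    · rw [e, b26] at h3; exact absurd h3 (by decide)
    · rw [e, B_add_left, h6, b26, zero_add] at h3; exact absurd h3 (by decide)
  have k0 := key (bv 0) (Or.inl rfl)
  have k1 := key (bv 1) (Or.inr rfl)
  have hy : ∀ y, Perp y → (g : V ≃ₗ[ZMod 2] V) y = y := by
    intro y hy
    have e0 : (g : V ≃ₗ[ZMod 2] V) y = y ∨ (g : V ≃ₗ[ZMod 2] V) y = y + bv 0 := by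
      refine eq_of_X (q_bv 0) hy.1 ?_ (bv_ne 0) ?_
      · have := O8_B hg (bv 0) y
        rw [k0] at this
        rw [this]; exact hy.1
      · have := X_conj hg (bv 0) y
        rw [k0, hX _ _ (Or.inl rfl) hy, mul_inv_cancel_right] at this
        exact this
    have e1 : (g : V ≃ₗ[ZMod 2] V) y = y ∨ (g : V ≃ₗ[ZMod 2] V) y = y + bv 1 := by
      refine eq_of_X (q_bv 1) hy.2 ?_ (bv_ne 1) ?_
      · have := O8_B hg (bv 1) y
        rw [k1] at this
        rw [this]; exact hy.2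
      · have := X_conj hg (bv 1) y
        rw [k1, hX _ _ (Or.inr rfl) hy, mul_inv_cancel_right] at this
        exact this
    rcases e0 with e0 | e0
    · exact e0
    · rcases e1 with e1 | e1
      · exact e1
      · exfalso
        have h1 : bv 0 = bv 1 := add_left_cancel (e0.symm.trans e1)
        have h2 : B (bv 0) (bv 4) = B (bv 1) (bv 4) := by rw [h1]
        rw [b04, b14] at h2
        exact absurd h2 (by decide)
  have hL : ∀ v, Line ((g : V ≃ₗ[ZMod 2] V) v + v) := by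
    intro v
    apply line_of
    intro y hy'
    have h1 := O8_B hg v y
    rw [hy y hy'] at h1
    rw [B_add_left, h1, z2_add_self]
  -- the images of `bv 4`, `bv 5`
  have h4 := hL (bv 4)
  have h5 := hL (bv 5)
  have q4 : q ((g : V ≃ₗ[ZMod 2] V) (bv 4)) = 0 := by rw [O8_q hg, q_bv]
  have q5 : q ((g : V ≃ₗ[ZMod 2] V) (bv 5)) = 0 := by rw [O8_q hg, q_bv]
  have b : B ((g : V ≃ₗ[ZMod 2] V) (bv 4)) ((g : V ≃ₗ[ZMod 2] V) (bv 5)) = 0 := by rw [O8_B hg, b45]
  have r4 : (g : V ≃ₗ[ZMod 2] V) (bv 4) = bv 4 + ((g : V ≃ₗ[ZMod 2] V) (bv 4) + bv 4) := by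
    rw [add_comm _ (bv 4), ← add_assoc, add_self, zero_add]
  have r5 : (g : V ≃ₗ[ZMod 2] V) (bv 5) = bv 5 + ((g : V ≃ₗ[ZMod 2] V) (bv 5) + bv 5) := by
    rw [add_comm _ (bv 5), ← add_assoc, add_self, zero_add]
  have b40 : B (bv 4) (bv 0) = 1 := by rw [B_comm]; exact b04
  have b41 : B (bv 4) (bv 1) = 0 := by rw [B_comm]; exact b14
  have b50 : B (bv 5) (bv 0) = 0 := by rw [B_comm]; exact b05
  have b51 : B (bv 5) (bv 1) = 1 := by rw [B_comm]; exact b15
  have c4 : (g : V ≃ₗ[ZMod 2] V) (bv 4) = bv 4 ∨ (g : V ≃ₗ[ZMod 2] V) (bv 4) = bv 4 + bv 1 := by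
    rcases h4 with e | e | e | e <;> rw [e] at r4
    · left; rwa [add_zero] at r4
    · exfalso
      rw [r4, q_add, q_bv, q_bv, b40] at q4; exact absurd q4 (by decide)
    · right; exact r4
    · exfalso
      rw [r4, q_add, q_add, q_bv, q_bv, q_bv, B_add_right, b40, b41, b01] at q4; exact absurd q4 (by decide)
  have c5 : (g : V ≃ₗ[ZMod 2] V) (bv 5) = bv 5 ∨ (g : V ≃ₗ[ZMod 2] V) (bv 5) = bv 5 + bv 0 := by
    rcases h5 with e | e | e | e <;> rw [e] at r5
    · left; rwa [add_zero] at r5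
    · right; exact r5
    · exfalso
      rw [r5, q_add, q_bv, q_bv, b51] at q5; exact absurd q5 (by decide)
    · exfalso
      rw [r5, q_add, q_add, q_bv, q_bv, q_bv, B_add_right, b50, b51, b01] at q5; exact absurd q5 (by decide)
  -- `v = y + α bv 4 + β bv 5`
  have hdec : ∀ v : V, v = (v + (B (bv 0) v • bv 4 + B (bv 1) v • bv 5)) + (B (bv 0) v • bv 4 + B (bv 1) v • bv 5) := by
    intro v
    rw [add_assoc, add_self, add_zero]
  have hgv : ∀ v : V, (g : V ≃ₗ[ZMod 2] V) v = (v + (B (bv 0) v • bv 4 + B (bv 1) v • bv 5)) +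
      (B (bv 0) v • (g : V ≃ₗ[ZMod 2] V) (bv 4) + B (bv 1) v • (g : V ≃ₗ[ZMod 2] V) (bv 5)) := by
    intro v
    conv_lhs => rw [hdec v]
    rw [map_add, hy _ (perp_sub v), map_add, map_smul, map_smul]
  rcases c4 with c4 | c4 <;> rcases c5 with c5 | c5
  · left
    apply Subtype.ext
    refine LinearEquiv.ext fun v => ?_
    rw [hgv, c4, c5, ← hdec]
    rfl
  · exfalso
    rw [c4, c5, B_add_right, b45, b40] at b
    exact absurd b (by decide)
  · exfalso
    rw [c4, c5, B_add_left, b45, b15] at b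
    exact absurd b (by decide)
  · right
    apply Subtype.ext
    refine LinearEquiv.ext fun v => ?_
    rw [hgv, c4, c5]
    change _ = X (bv 0) (bv 1) v
    rw [X_apply (q_bv 0) (q_bv 1) b01, smul_add, smul_add]
    generalize B (bv 0) v • bv 4 = s
    generalize B (bv 1) v • bv 5 = t
    generalize B (bv 0) v • bv 1 = k
    generalize B (bv 1) v • bv 0 = l
    have e : v + (s + t) + (s + k + (t + l)) = v + k + l + ((s + s) + (t + t)) := by abel
    rw [e, add_self, add_self, add_zero, add_zero]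

/-- **The root elements are dead.** -/
theorem dead_root {w : Om} (hw : IsRoot (w : V ≃ₗ[ZMod 2] V)) : Dead w := by
  have hfin : Finite Om := inferInstance
  -- the standard root element
  have hz : Dead zc := by
    intro β A C
    have hcon : ∀ h : Om, h * zc = zc * h → (∀ q ∈ OO2 zc, h * q = q * h) → h ∈ OO2 zc := by
      intro h _ hc
      have h1 := cent_RR (g := h) fun r hr => hc r (RR_le hr)
      rcases h1 with rfl | rfl
      · exact one_mem _
      · apply RR_le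
        exact X_mem_RR (Or.inl rfl) (Line.perp (Or.inr (Or.inr (Or.inl rfl))))
    obtain ⟨h1, h2⟩ := C.central center_Om hcon
    have h3 : (A : Set Om) ⊆ {1, zc} := by
      intro a ha
      exact cent_RR (g := a) fun r hr => h2 a ha r (RR_le hr)
    have h4 : (A : Set Om).ncard ≤ ({1, zc} : Set Om).ncard := Set.ncard_le_ncard h3 (Set.toFinite _)
    have h5 : ({1, zc} : Set Om).ncard ≤ 2 := Set.ncard_insert_le _ _ |>.trans (by simp)
    have h6 : (A : Set Om).ncard = 4 := by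
      change Nat.card A = 4
      exact C.A4
    omega
  obtain ⟨M, hM, h⟩ := conj_root hw
  have h1 := hz.map (cj ⟨M, hM⟩ : Om ≃* Om)
  have h2 : cj ⟨M, hM⟩ zc = w := by
    apply Subtype.ext
    rw [cj_coe]
    exact h
  rwa [h2] at h1

end Cfsg.Agent.OddHalf.NI3.Ex4.O8
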