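import Cfsg.Agent.OddHalf.NI3.Ex4.OEight.Root
import Cfsg.Agent.OddHalf.D9.Cut

/-!
# (EX4), the row `Ω₈⁺(2)`

`row_of` : the row from the three pieces `Pieces`.
-/

set_option autoImplicit false
set_option linter.style.haveILetI false

namespace Cfsg.Agent.OddHalf.NI3.Ex4.O8

open Subgroup Cfsg Cfsg.Agent.OddHalf.NI3.Ex4 Cfsg.Agent.OddHalf.D9.Cut
open Cfsg.Agent.StdO8.Model Cfsg.Agent.StdO8.Root Cfsg.Agent.StdO8.Aut

universe u

/-- the other pieces of the row -/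
structure Pieces : Prop where
  c2 : ∀ w : Om, IsC2 (w : V ≃ₗ[ZMod 2] V) → Dead w
  c4 : Dead w0
  cls : ∀ w : Om, w * w = 1 → w ≠ 1 → ∃ α : MulAut Om, IsRoot ((α w : Om) : V ≃ₗ[ZMod 2] V) ∨
    IsC2 ((α w : Om) : V ≃ₗ[ZMod 2] V) ∨ α w = w0

theorem dead (P : Pieces) {w : Om} (hw : w * w = 1) (hw1 : w ≠ 1) : Dead w := by
  obtain ⟨α, h⟩ := P.cls w hw hw1
  have h1 : Dead (α w) := by
    rcases h with h | h | h
    · exact dead_root h
    · exact P.c2 _ h
    · rw [h]; exact P.c4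
  have h2 := h1.map (α.symm : Om ≃* Om)
  rwa [MulEquiv.symm_apply_apply] at h2

/-- **The row `Ω₈⁺(2)`.** -/
theorem row_of (P : Pieces) {X : Type u} [Group X] (h : XO82 X) : Row4 X := by
  obtain ⟨F, hF, hF', hc, ⟨e⟩⟩ := h
  obtain ⟨e'⟩ := exists_equiv (F := F) hc
  have f : X ≃* Om := e.trans e'
  apply row4_of_dead
  intro w hw hw1
  have h1 : Dead (f w) := dead P (by rw [← map_mul, hw, map_one]) (fun h => hw1 (f.injective (by rw [h, map_one])))
  have h2 := h1.map f.symm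
  rwa [MulEquiv.symm_apply_apply] at h2

end Cfsg.Agent.OddHalf.NI3.Ex4.O8
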